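import Cfsg.Agent.Lib.Lie.RankOneInvolutions
import Cfsg.Agent.Lib.OddLocal.NonKappa
import Cfsg.Agent.Lib.Core.Nilpotent

/-!
Owner: helper11. A rank one setup of 2-rank at least two: `Q` is nilpotent with central involutions.
-/

set_option autoImplicit false
set_option maxHeartbeats 400000
set_option linter.unusedSectionVars false

namespace CfsgLib.Lie.RankOne

open MulAction

variable {G Ω : Type*} [Group G] [MulAction G Ω] [Finite G] {a : Ω} {t : G} {Q : Subgroup G}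

local notation "𝔇" => stabilizer G a ⊓ stabilizer G (t • a)
local notation "𝔎" => Cfsg.invertedBy (stabilizer G a ⊓ stabilizer G (t • a)) t
local notation "𝔍" => Cfsg.involutionsIn (stabilizer G a : Set G)

variable (hS : Cfsg.IsRankOneSetup G Ω a t Q)
include hS

theorem K_pow {k : G} (hk : k ∈ 𝔎) (n : ℕ) : k ^ n ∈ 𝔎 :=
  ⟨pow_mem hk.1 n, by rw [← conj_pow, hk.2, inv_pow]⟩

/-- Two commuting involutions give two involutions in the stabiliser. -/
theorem exists_J_pair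
    (h2 : ∃ x y : G, x ≠ 1 ∧ y ≠ 1 ∧ x ≠ y ∧ x * x = 1 ∧ y * y = 1 ∧ x * y = y * x) :
    ∃ s s' : G, s ∈ 𝔍 ∧ s' ∈ 𝔍 ∧ s ≠ s' ∧ s * s' = s' * s := by
  obtain ⟨x, y, hx, hy, hxy, hxx, hyy, hc⟩ := h2
  obtain ⟨c, hxc⟩ := exists_fix hS hxx
  have hyc : y • c = c := fix_of_commute hS hx hxx hxc hc.symm
  obtain ⟨g, hg⟩ := transitive' hS c a
  have key : ∀ u : G, u ≠ 1 → u * u = 1 → u • c = c → g * u * g⁻¹ ∈ 𝔍 := by
    intro u hu huu huc
    refine ⟨?_, conj_involution hS hu huu g⟩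
    show (g * u * g⁻¹) • a = a
    rw [← hg, mul_smul, inv_smul_smul, mul_smul, huc]
  refine ⟨_, _, key x hx hxx hxc, key y hy hyy hyc, fun h => hxy (by simpa using h), ?_⟩
  rw [show g * x * g⁻¹ * (g * y * g⁻¹) = g * (x * y) * g⁻¹ by group, hc]
  group

/-- An inverted element fixes only the trivial element of `Q`. -/
theorem fixed_point_free {x : G} (hx : x ∈ 𝔎) (hx1 : x ≠ 1) :
    Q ⊓ Subgroup.centralizer {x} = ⊥ := by
  rw [eq_bot_iff]
  intro q hq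
  obtain ⟨hqQ, hqx⟩ := Subgroup.mem_inf.1 hq
  rw [Subgroup.mem_centralizer_singleton_iff] at hqx
  rw [Subgroup.mem_bot]
  by_contra hq1
  refine hx1 (inverted_eq_one hS hx ⟨q • (t • a), fun h => ?_, fun h => hq1 ?_, ?_⟩)
  · refine t_smul_ne hS (smul_left_cancel q ?_)
    rw [h, Q_fix hS hqQ]
  · exact eq_one_of_fix_ta hS hqQ h
  · rw [← mul_smul, ← hqx, mul_smul, (mem_D.1 hx.1).2]

variable (h2 : ∃ x y : G, x ≠ 1 ∧ y ≠ 1 ∧ x ≠ y ∧ x * x = 1 ∧ y * y = 1 ∧ x * y = y * x)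
include h2

theorem exists_K_prime : ∃ p : ℕ, p.Prime ∧ ∃ k ∈ 𝔎, orderOf k = p := by
  obtain ⟨s, s', hs, hs', hne, -⟩ := exists_J_pair hS h2
  obtain ⟨k, ⟨hk, he⟩, -⟩ := exists_unique_K hS hs hs'
  have hk1 : k ≠ 1 := fun h => hne (by rw [← he, h]; group)
  obtain ⟨p, hp, m, hm⟩ := Nat.exists_prime_and_dvd (orderOf_eq_one_iff.not.2 hk1)
  have hm0 : m ≠ 0 := fun h0 => (orderOf_pos k).ne' (by rw [hm, h0, mul_zero])
  refine ⟨p, hp, k ^ m, K_pow hS hk m, ?_⟩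
  rw [orderOf_pow_of_dvd hm0 ⟨p, by rw [hm, mul_comm]⟩, hm, Nat.mul_div_cancel _ (by omega)]

theorem Q_nilpotent : Group.IsNilpotent Q := by
  obtain ⟨p, hp, k, hk, hkp⟩ := exists_K_prime hS h2
  haveI := Fact.mk hp
  refine CfsgLib.OddLocal.NonKappa.isNilpotent_of_fpf_elem hkp ?_ (fixed_point_free hS hk ?_)
  · rw [Subgroup.mem_normalizer_iff]
    refine fun q => ⟨Q_conj hS hk.1, fun h => ?_⟩
    have := Q_conj hS (inv_mem hk.1) h
    simpa [mul_assoc] using this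
  · rintro rfl
    rw [orderOf_one] at hkp
    exact hp.one_lt.ne hkp

/-- The involutions of the stabiliser are central in `Q`. -/
theorem J_central {s : G} (hs : s ∈ 𝔍) {x : G} (hx : x ∈ Q) : s * x = x * s := by
  haveI := Q_nilpotent hS h2
  haveI : Fact (Nat.Prime 2) := ⟨Nat.prime_two⟩
  obtain ⟨P⟩ : Nonempty (Sylow 2 Q) := inferInstance
  haveI : (P : Subgroup Q).Normal :=
    P.normal_of_normalizerCondition Group.normalizerCondition_of_isNilpotent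
  have hP : (P : Subgroup Q) ≠ ⊥ := P.ne_bot_of_dvd_card (even_iff_two_dvd.1 hS.even_card)
  have hne := CfsgLib.Core.inf_center_ne_bot_of_isNilpotent (P : Subgroup Q) hP
  obtain ⟨z, hz⟩ : ∃ z : ↥((P : Subgroup Q) ⊓ Subgroup.center Q), orderOf z = 2 := by
    refine exists_prime_orderOf_dvd_card' 2 ?_
    have hpg : IsPGroup 2 ↥((P : Subgroup Q) ⊓ Subgroup.center Q) := P.2.to_le inf_le_left
    obtain ⟨n, hn⟩ := hpg.exists_card_eq
    rw [hn]
    refine dvd_pow_self 2 fun h0 => hne (Subgroup.eq_bot_of_card_eq _ ?_)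
    rw [hn, h0, pow_zero]
  have hzc : ((z : Q) : Q) ∈ Subgroup.center Q := (Subgroup.mem_inf.1 z.2).2
  set s₀ : G := ((z : Q) : G) with hs₀
  have ho : orderOf s₀ = 2 := by rw [hs₀, Subgroup.orderOf_coe, Subgroup.orderOf_coe, hz]
  have hs₀J : s₀ ∈ 𝔍 := ⟨hS.le (z : Q).2, fun h => by rw [h, orderOf_one] at ho; omega,
    by rw [← sq, ← ho, pow_orderOf_eq_one]⟩
  obtain ⟨k, ⟨hk, he⟩, -⟩ := exists_unique_K hS hs₀J hs
  have h1 : (z : Q) * ⟨k * x * k⁻¹, Q_conj hS hk.1 hx⟩ = ⟨k * x * k⁻¹, Q_conj hS hk.1 hx⟩ * (z : Q) :=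
    (Subgroup.mem_center_iff.1 hzc _).symm
  have h1' : s₀ * (k * x * k⁻¹) = k * x * k⁻¹ * s₀ := congrArg Subtype.val h1
  rw [← he]
  calc k⁻¹ * s₀ * k * x = k⁻¹ * (s₀ * (k * x * k⁻¹)) * k := by group
    _ = x * (k⁻¹ * s₀ * k) := by rw [h1']; group

theorem J_mul {s s' : G} (hs : s ∈ 𝔍) (hs' : s' ∈ 𝔍) : s * s' = 1 ∨ s * s' ∈ 𝔍 := by
  by_cases h : s * s' = 1
  · exact Or.inl h
  refine Or.inr ⟨mul_mem hs.1 hs'.1, h, ?_⟩
  calc s * s' * (s * s') = s * (s' * s) * s' := by group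
    _ = s * (s * s') * s' := by rw [J_central hS h2 hs' (J_mem_Q hS hs)]
    _ = (s * s) * (s' * s') := by group
    _ = 1 := by rw [hs.2.2, hs'.2.2, one_mul]

end CfsgLib.Lie.RankOne
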