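import Cfsg.Agent.Lib.Lie.RankOne
import Cfsg.Agent.S1124

/-!
Owner: helper11. Involutions and inverted elements of a rank one setup.
-/

set_option autoImplicit false
set_option maxHeartbeats 400000
set_option linter.unusedSectionVars false

namespace CfsgLib.Lie.RankOne

open MulAction

variable {G Ω : Type*} [Group G] [MulAction G Ω] [Finite G] {a : Ω} {t : G} {Q : Subgroup G}

local notation "𝔇" => stabilizer G a ⊓ stabilizer G (t • a)
local notation "𝔎" => Cfsg.invertedBy (stabilizer G a ⊓ stabilizer G (t • a)) t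
local notation "𝔍" => Cfsg.involutionsIn (stabilizer G a : Set G)

theorem mem_D {d : G} : d ∈ 𝔇 ↔ d • a = a ∧ d • (t • a) = t • a := Subgroup.mem_inf

omit [MulAction G Ω] in
theorem eq_one_of_conj_eq_inv {k x : G} (hk : Odd (orderOf k)) (hx : Odd (orderOf x))
    (h : k * x * k⁻¹ = x⁻¹) : x = 1 := by
  have h2 : Commute (k ^ 2) x := by
    refine mul_inv_eq_iff_eq_mul.mp ?_
    calc k ^ 2 * x * (k ^ 2)⁻¹ = k * (k * x * k⁻¹) * k⁻¹ := by simp [sq, mul_assoc]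
      _ = x := by rw [h, ← conj_inv, h, inv_inv]
  obtain ⟨j, hj⟩ := hk
  have hkk : (k ^ 2) ^ (j + 1) = k := by
    rw [← pow_mul, show 2 * (j + 1) = orderOf k + 1 by omega, pow_succ, pow_orderOf_eq_one, one_mul]
  have h1 : Commute k x := hkk ▸ h2.pow_left (j + 1)
  rw [h1.eq, mul_inv_cancel_right] at h
  obtain ⟨i, hi⟩ := hx
  have hxx : x ^ 2 = 1 := by rw [sq]; nth_rewrite 2 [h]; exact mul_inv_cancel x
  calc x = (x ^ 2) ^ i * x := by rw [hxx, one_pow, one_mul]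
    _ = x ^ orderOf x := by rw [hi, ← pow_mul, ← pow_succ]
    _ = 1 := pow_orderOf_eq_one x

variable (hS : Cfsg.IsRankOneSetup G Ω a t Q)
include hS

theorem D_odd {d : G} (hd : d ∈ 𝔇) : Odd (orderOf d) := by
  refine hS.odd_card.of_dvd_nat ?_
  rw [← Subgroup.orderOf_mk d hd]
  exact orderOf_dvd_natCard _

theorem D_eq_one {d : G} (hd : d ∈ 𝔇) (h : d * d = 1) : d = 1 := by
  obtain ⟨i, hi⟩ := D_odd hS hd
  have := pow_orderOf_eq_one d
  rwa [hi, pow_succ, pow_mul, sq, h, one_pow, one_mul] at this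

theorem t_smul_ta : t • (t • a) = a := by rw [← mul_smul, hS.mul_self, one_smul]

theorem t_mul_t_mul (x : G) : t * (t * x) = x := by rw [← mul_assoc, hS.mul_self, one_mul]

theorem Q_conj {d x : G} (hd : d ∈ 𝔇) (hx : x ∈ Q) : d * x * d⁻¹ ∈ Q :=
  hS.conj_mem d (mem_D.1 hd).1 x hx

theorem transitive' (b c : Ω) : ∃ g : G, g • b = c := by
  haveI := hS.two_transitive
  haveI : IsPretransitive G Ω := MulAction.isPretransitive_of_is_two_pretransitive
  exact exists_smul_eq G b c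

theorem pairs {b c b' c' : Ω} (hbc : b ≠ c) (hbc' : b' ≠ c') : ∃ g : G, g • b = b' ∧ g • c = c' :=
  (MulAction.is_two_pretransitive_iff).1 hS.two_transitive hbc hbc'

omit [Finite G] in
theorem conj_involution {u : G} (hu : u ≠ 1) (huu : u * u = 1) (g : G) :
    g * u * g⁻¹ ≠ 1 ∧ g * u * g⁻¹ * (g * u * g⁻¹) = 1 :=
  ⟨fun h => hu (conj_eq_one_iff.mp h), by
    rw [show g * u * g⁻¹ * (g * u * g⁻¹) = g * (u * u) * g⁻¹ by group, huu]; group⟩

/-- An involution has at most one fixed point. -/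
theorem fix_unique {u : G} (hu : u ≠ 1) (huu : u * u = 1) {b c : Ω} (hb : u • b = b)
    (hc : u • c = c) : b = c := by
  obtain ⟨g, hg⟩ := transitive' hS b a
  obtain ⟨h1, h2⟩ := conj_involution hS hu huu g
  have hm : g * u * g⁻¹ ∈ stabilizer G a := by
    show (g * u * g⁻¹) • a = a
    rw [← hg, mul_smul, inv_smul_smul, mul_smul, hb]
  by_contra hne
  refine h1 (eq_one_of_fix hS (involution_mem_Q hS hm h2) (c := g • c) (fun h => hne ?_) ?_)
  · exact (smul_left_cancel g (h.trans hg.symm)).symm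
  · rw [mul_smul, inv_smul_smul, mul_smul, hc]

/-- An involution has a fixed point. -/
theorem exists_fix {u : G} (huu : u * u = 1) : ∃ c : Ω, u • c = c := by
  classical
  obtain ⟨_, hcard⟩ := card_points hS
  haveI := Fintype.ofFinite Ω
  let σ : Equiv.Perm Ω := toPerm u
  have hσ : σ ^ 2 ^ 1 = 1 := by
    ext x; simp [σ, sq, ← mul_smul, huu]
  obtain ⟨c, hc⟩ := Equiv.Perm.exists_fixed_point_of_prime (p := 2) (n := 1) (hp := ⟨Nat.prime_two⟩) (σ := σ)
    (by rw [← Nat.card_eq_fintype_card, hcard]; have := hS.even_card; rw [even_iff_two_dvd] at this; omega) hσ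
  exact ⟨c, hc⟩

/-- An element commuting with an involution fixes its fixed point. -/
theorem fix_of_commute {u g : G} (hu : u ≠ 1) (huu : u * u = 1) {c : Ω} (hc : u • c = c)
    (hg : g * u = u * g) : g • c = c :=
  fix_unique hS hu huu (by rw [← mul_smul, ← hg, mul_smul, hc]) hc

theorem exists_involution : ∃ s, s ∈ 𝔍 := by
  haveI : Fact (Nat.Prime 2) := ⟨Nat.prime_two⟩
  obtain ⟨x, hx⟩ := exists_prime_orderOf_dvd_card' (G := Q) 2 (even_iff_two_dvd.1 hS.even_card)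
  refine ⟨x, hS.le x.2, fun h => ?_, ?_⟩
  · rw [← Subgroup.orderOf_coe, h, orderOf_one] at hx
    omega
  · rw [← sq, ← hx, ← Subgroup.orderOf_coe, pow_orderOf_eq_one]

theorem conj_mem_J {s d : G} (hs : s ∈ 𝔍) (hd : d ∈ stabilizer G a) : d * s * d⁻¹ ∈ 𝔍 :=
  ⟨mul_mem (mul_mem hd hs.1) (inv_mem hd), conj_involution hS hs.2.1 hs.2.2 d⟩

theorem J_mem_Q {s : G} (hs : s ∈ 𝔍) : s ∈ Q := involution_mem_Q hS hs.1 hs.2.2

theorem t_conj_inv {k : G} (hk : k ∈ 𝔎) : t * k * t = k⁻¹ := by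
  have := hk.2
  rwa [t_inv hS] at this

theorem K_swap {k : G} (hk : k ∈ 𝔎) :
    t * k ≠ 1 ∧ (t * k) * (t * k) = 1 ∧ (t * k) • a = t • a ∧ (t * k) • (t • a) = a := by
  refine ⟨fun h => hS.not_mem ?_, ?_, ?_, ?_⟩
  · rw [eq_inv_of_mul_eq_one_left h]
    exact inv_mem (mem_D.1 hk.1).1
  · rw [show t * k * (t * k) = t * k * t * k by group, t_conj_inv hS hk, inv_mul_cancel]
  · rw [mul_smul, (mem_D.1 hk.1).1]
  · rw [mul_smul, (mem_D.1 hk.1).2, t_smul_ta hS]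

theorem mem_K_of_swap {u : G} (huu : u * u = 1) (ha : u • a = t • a) : t * u ∈ 𝔎 := by
  have hta : u • (t • a) = a := by rw [← ha, ← mul_smul, huu, one_smul]
  refine ⟨mem_D.2 ⟨by rw [mul_smul, ha, t_smul_ta hS], by rw [mul_smul, hta]⟩, ?_⟩
  rw [t_inv hS, t_mul_t_mul hS, mul_inv_rev, t_inv hS, inv_eq_of_mul_eq_one_right huu]

/-- An involution exchanging two involutions with odd product, inside the group they generate. -/
theorem exists_exchange {p q : G} (hpp : p * p = 1) (hqq : q * q = 1) (hodd : Odd (orderOf (p * q))) :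
    ∃ n : ℕ, p * (p * q) ^ n * (p * (p * q) ^ n) = 1 ∧
      p * (p * q) ^ n * p * (p * (p * q) ^ n) = q := by
  obtain ⟨j, hj⟩ := hodd
  refine ⟨j + 1, ?_⟩
  have hp : p⁻¹ = p := inv_eq_of_mul_eq_one_right hpp
  have hq : q⁻¹ = q := inv_eq_of_mul_eq_one_right hqq
  have hflip : p * (p * q) ^ (j + 1) * p = ((p * q) ^ (j + 1))⁻¹ := by
    have h1 : p * (p * q) * p⁻¹ = (p * q)⁻¹ := by
      rw [mul_inv_rev, hp, hq, ← mul_assoc, hpp, one_mul]
    calc p * (p * q) ^ (j + 1) * p = p * (p * q) ^ (j + 1) * p⁻¹ := by rw [hp]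
      _ = ((p * q) ^ (j + 1))⁻¹ := by rw [← conj_pow, h1, inv_pow]
  have hflip' : ((p * q) ^ (j + 1))⁻¹ * p = p * (p * q) ^ (j + 1) := by
    rw [← hflip, mul_assoc, hpp, mul_one]
  refine ⟨by rw [← mul_assoc, hflip, inv_mul_cancel], ?_⟩
  rw [hflip, ← mul_assoc, hflip', mul_assoc, ← pow_add]
  have h2 : (p * q) ^ (j + 1 + (j + 1)) = p * q := by
    rw [show j + 1 + (j + 1) = orderOf (p * q) + 1 by omega, pow_succ, pow_orderOf_eq_one, one_mul]
  rw [h2, ← mul_assoc, hpp, one_mul]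

/-- The inverted elements act regularly on the involutions of the stabiliser. -/
theorem exists_unique_K {s s' : G} (hs : s ∈ 𝔍) (hs' : s' ∈ 𝔍) :
    ∃! k, k ∈ 𝔎 ∧ k⁻¹ * s * k = s' := by
  set q := t * s * t with hqd
  have hqb : q • (t • a) = t • a := by
    rw [hqd, mul_smul, mul_smul, t_smul_ta hS, show s • a = a from hs.1]
  have hq1 : q ≠ 1 := fun h => hs.2.1 (by
    have := congrArg (fun z => t * z * t) h
    simpa [hqd, mul_assoc, t_mul_t_mul hS, hS.mul_self] using this)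
  have hqq : q * q = 1 := by
    simp only [hqd, mul_assoc, t_mul_t_mul hS]
    rw [← mul_assoc s, hs.2.2, one_mul, hS.mul_self]
  have hqa : q ∉ stabilizer G a := fun h => t_smul_ne hS (fix_unique hS hq1 hqq hqb h)
  obtain ⟨n, huu, hu⟩ := exists_exchange hS hs'.2.2 hqq (odd_order hS hs'.1 hs'.2.1 hs'.2.2 hqa hqq)
  set u := s' * (s' * q) ^ n with hud
  have hui : u⁻¹ = u := inv_eq_of_mul_eq_one_right huu
  have hua : u • a = t • a := by
    refine fix_unique hS hq1 hqq ?_ hqb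
    rw [← mul_smul, ← hu, mul_assoc, huu, mul_one, mul_smul, show s' • a = a from hs'.1]
  have hk := mem_K_of_swap hS huu hua
  refine ⟨t * u, ⟨hk, ?_⟩, ?_⟩
  · rw [mul_inv_rev, t_inv hS, hui]
    have : u * q * u = s' := by rw [← hu]; simp [mul_assoc, huu, ← mul_assoc u u]
    rw [← this, hqd]
    simp only [mul_assoc]
  · rintro k ⟨hkK, hke⟩
    obtain ⟨-, hu'u, hu'a, hu'b⟩ := K_swap hS hkK
    set u' := t * k with hu'd
    have hu'i : u'⁻¹ = u' := inv_eq_of_mul_eq_one_right hu'u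
    have hu' : u' * s' * u' = q := by
      rw [← hke]
      calc u' * (k⁻¹ * s * k) * u' = u' * (k⁻¹ * s * k) * u'⁻¹ := by rw [hu'i]
        _ = q := by rw [hu'd, hqd, mul_inv_rev, t_inv hS]; group
    set d := u' * u with hdd
    have hdD : d ∈ 𝔇 := by
      have hub : u • (t • a) = a := by rw [← hua, ← mul_smul, huu, one_smul]
      exact mem_D.2 ⟨by rw [hdd, mul_smul, hua, hu'b], by rw [hdd, mul_smul, hub, hu'a]⟩
    have hqs : u * q * u = s' := by
      rw [← hu]; simp [mul_assoc, huu, ← mul_assoc u u]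
    have hds' : Commute d q := by
      refine mul_inv_eq_iff_eq_mul.mp ?_
      rw [hdd, mul_inv_rev, hui, hu'i]
      calc u' * u * q * (u * u') = u' * (u * q * u) * u' := by simp only [mul_assoc]
        _ = q := by rw [hqs, hu']
    have hds : Commute d s' := by
      have h1 : u' * q * u' = s' := by
        rw [← hu']; simp [mul_assoc, hu'u, ← mul_assoc u' u']
      refine mul_inv_eq_iff_eq_mul.mp ?_
      rw [hdd, mul_inv_rev, hui, hu'i]
      calc u' * u * s' * (u * u') = u' * (u * s' * u) * u' := by simp only [mul_assoc]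
        _ = s' := by rw [hu, h1]
    have hdu : Commute d u := hds.mul_right ((hds.mul_right hds').pow_right n)
    have hd2 : d * d = 1 := by
      have h1 : d * u = u * d := hdu
      rw [hdd] at h1 ⊢
      rw [show u' * u * (u' * u) = u' * (u * (u' * u)) by group, ← h1, mul_assoc u', huu, mul_one, hu'u]
    have hd1 := D_eq_one hS hdD hd2
    have he : u' = u := by rw [← hui]; exact eq_inv_of_mul_eq_one_left hd1
    rw [hu'd] at he
    rw [← he, t_mul_t_mul hS]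

theorem card_K : Nat.card 𝔎 = Nat.card 𝔍 := by
  obtain ⟨s, hs⟩ := exists_involution hS
  refine Nat.card_eq_of_bijective (fun k => (⟨(k : G)⁻¹ * s * k, by
    have := conj_mem_J hS hs (inv_mem (mem_D.1 k.2.1).1)
    rwa [inv_inv] at this⟩ : 𝔍)) ⟨fun k k' h => ?_, fun s' => ?_⟩
  · exact Subtype.ext ((exists_unique_K hS hs (by
      have := conj_mem_J hS hs (inv_mem (mem_D.1 k'.2.1).1)
      rwa [inv_inv] at this)).unique ⟨k.2, congrArg Subtype.val h⟩ ⟨k'.2, rfl⟩)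
  · obtain ⟨k, ⟨hk, he⟩, -⟩ := exists_unique_K hS hs s'.2
    exact ⟨⟨k, hk⟩, Subtype.ext he⟩

theorem one_mem_K : (1 : G) ∈ 𝔎 := ⟨one_mem _, by simp⟩

theorem K_eq_one {k s : G} (hk : k ∈ 𝔎) (hs : s ∈ 𝔍) (h : k⁻¹ * s * k = s) : k = 1 :=
  (exists_unique_K hS hs hs).unique ⟨hk, h⟩ ⟨one_mem_K hS, by simp⟩

theorem orderOf_t : orderOf t = 2 :=
  orderOf_eq_prime (by rw [sq, hS.mul_self]) hS.ne_one

/-- Splitting an element of the two-point stabiliser. -/
theorem D_split {d : G} (hd : d ∈ 𝔇) :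
    ∃ v k : G, v ∈ 𝔇 ∧ v * t = t * v ∧ k ∈ 𝔎 ∧ d = v * k := by
  obtain ⟨⟨v, k⟩, ⟨hv, hk, he⟩, -⟩ := (Cfsg.Agent.S1124.result t (orderOf_t hS) 𝔇 hS.odd_card
    (fun x hx => by rw [t_inv hS]; exact tDt hS hx)).1 d hd
  exact ⟨v, k, (Subgroup.mem_inf.1 hv).1,
    Subgroup.mem_centralizer_singleton_iff.mp (Subgroup.mem_inf.1 hv).2, hk, he⟩

/-- The structure equation. -/
theorem structure_equation :
    ∃! p : G × G, p.1 ∈ 𝔍 ∧ p.2 ∈ Q ∧ t * p.1 * t = p.2⁻¹ * t * p.2 := by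
  obtain ⟨c, hc⟩ := exists_fix hS hS.mul_self
  have hca : c ≠ a := fun h => t_smul_ne hS (h ▸ hc)
  have hti : t⁻¹ = t := t_inv hS
  obtain ⟨⟨r, hr⟩, hrc, hru⟩ := existsUnique_smul hS (t • a) c (t_smul_ne hS) hca
  dsimp only at hrc
  obtain ⟨h1, h2⟩ := conj_involution hS hS.ne_one hS.mul_self (t * r⁻¹)
  refine ⟨(t * r⁻¹ * t * (t * r⁻¹)⁻¹, r), ⟨⟨?_, h1, h2⟩, hr, ?_⟩, ?_⟩
  · show (t * r⁻¹ * t * (t * r⁻¹)⁻¹) • a = a
    rw [mul_inv_rev, inv_inv, hti, mul_smul, mul_smul r t a, hrc, mul_smul, hc, mul_smul, ← hrc,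
      inv_smul_smul, t_smul_ta hS]
  · show t * (t * r⁻¹ * t * (t * r⁻¹)⁻¹) * t = r⁻¹ * t * r
    rw [mul_inv_rev, inv_inv, hti]
    simp [mul_assoc, t_mul_t_mul hS, hS.mul_self]
  · rintro ⟨s, r'⟩ ⟨hs, hr', he⟩
    dsimp only at he hr' hs
    have hr'c : r' • (t • a) = c := by
      refine fix_unique hS hS.ne_one hS.mul_self ?_ hc
      have h : (t * s * t) • (t • a) = t • a := by
        rw [mul_smul, mul_smul, t_smul_ta hS, show s • a = a from hs.1]
      rw [he, mul_smul, mul_smul] at h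
      have := congrArg (r' • ·) h
      simpa using this
    obtain rfl : r' = r := congrArg Subtype.val (hru ⟨r', hr'⟩ hr'c)
    refine Prod.ext ?_ rfl
    show s = t * r'⁻¹ * t * (t * r'⁻¹)⁻¹
    rw [mul_inv_rev, inv_inv, hti]
    calc s = t * (t * s * t) * t := by simp [mul_assoc, t_mul_t_mul hS, hS.mul_self]
      _ = _ := by rw [he]; simp only [mul_assoc]

/-- The distinguished involution has the same centraliser in `D` as `t`. -/
theorem centralizer_distinguished {s r : G} (hs : s ∈ 𝔍) (hr : r ∈ Q)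
    (he : t * s * t = r⁻¹ * t * r) {d : G} (hd : d ∈ 𝔇) : d * t = t * d ↔ d * s = s * d := by
  have fwd : ∀ v ∈ 𝔇, v * t = t * v → v * s = s * v := by
    intro v hv hvt
    have hu := structure_equation hS
    have hcomm : v * t * v⁻¹ = t := by rw [hvt, mul_inv_cancel_right]
    have hp := hu.unique (y₁ := (v * s * v⁻¹, v * r * v⁻¹)) (y₂ := (s, r))
      ⟨conj_mem_J hS hs (mem_D.1 hv).1, Q_conj hS hv hr, ?_⟩ ⟨hs, hr, he⟩
    · exact mul_inv_eq_iff_eq_mul.mp (Prod.ext_iff.1 hp).1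
    · dsimp only
      calc t * (v * s * v⁻¹) * t = (v * t * v⁻¹) * (v * s * v⁻¹) * (v * t * v⁻¹) := by rw [hcomm]
        _ = v * (t * s * t) * v⁻¹ := by group
        _ = (v * r * v⁻¹)⁻¹ * (v * t * v⁻¹) * (v * r * v⁻¹) := by rw [he]; group
        _ = (v * r * v⁻¹)⁻¹ * t * (v * r * v⁻¹) := by rw [hcomm]
  refine ⟨fwd d hd, fun hds => ?_⟩
  obtain ⟨v, k, hv, hvt, hk, rfl⟩ := D_split hS hd
  have hvs := fwd v hv hvt
  have hks : k * s = s * k := by
    refine mul_left_cancel (a := v) ?_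
    rw [← mul_assoc, hds, ← mul_assoc, ← hvs, mul_assoc]
  rw [K_eq_one hS hk hs (by rw [mul_assoc, ← hks, inv_mul_cancel_left]), mul_one]
  exact hvt

/-! ### Fixed points of subsets of the two-point stabiliser -/

theorem exists_Q_centralizing {X : Set G} (hX : X ⊆ (𝔇 : Set G)) {c : Ω}
    (hc : ∀ x ∈ X, x • c = c) (hca : c ≠ a) :
    ∃ y ∈ Subgroup.centralizer X ⊓ Q, y • (t • a) = c := by
  obtain ⟨y, hy, he⟩ := exists_smul_eq_ta hS hca
  refine ⟨y, ⟨Subgroup.mem_centralizer_iff.2 fun x hx => ?_, hy⟩, he⟩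
  have h1 := (existsUnique_smul hS (t • a) c (t_smul_ne hS) hca).unique
    (y₁ := ⟨x * y * x⁻¹, Q_conj hS (hX hx) hy⟩) (y₂ := ⟨y, hy⟩) (by
      show (x * y * x⁻¹) • (t • a) = c
      have h0 : x⁻¹ • (t • a) = t • a := (mem_D.1 (inv_mem (hX hx))).2
      rw [mul_smul, h0, mul_smul, he, hc x hx]) he
  exact mul_inv_eq_iff_eq_mul.mp (congrArg Subtype.val h1)

theorem exists_centralizing_moving {X : Set G} (hX : X ⊆ (𝔇 : Set G)) {c : Ω}
    (hc : ∀ x ∈ X, x • c = c) (hcb : c ≠ t • a) :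
    ∃ g ∈ Subgroup.centralizer X, g • (t • a) = t • a ∧ g • a = c := by
  have hX' : (fun x => t * x * t) '' X ⊆ (𝔇 : Set G) := by
    rintro _ ⟨x, hx, rfl⟩
    exact tDt hS (hX hx)
  obtain ⟨y, hy, he⟩ := exists_Q_centralizing hS hX' (c := t • c) (by
    rintro _ ⟨x, hx, rfl⟩
    rw [← mul_smul, show t * x * t * t = t * x by rw [mul_assoc, hS.mul_self, mul_one], mul_smul,
      hc x hx]) (fun h => hcb (by rw [← h, ← mul_smul, hS.mul_self, one_smul]))
  refine ⟨t * y * t, Subgroup.mem_centralizer_iff.2 fun x hx => ?_, ?_, ?_⟩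
  · have := Subgroup.mem_centralizer_iff.1 hy.1 _ ⟨x, hx, rfl⟩
    calc x * (t * y * t) = t * ((t * x * t) * y) * t := by simp [mul_assoc, t_mul_t_mul hS]
      _ = t * (y * (t * x * t)) * t := by rw [this]
      _ = t * y * t * x := by simp [mul_assoc, hS.mul_self]
  · rw [mul_smul, t_smul_ta hS, mul_smul, Q_fix hS hy.2]
  · rw [mul_smul, mul_smul, he, ← mul_smul, hS.mul_self, one_smul]

/-- The centraliser of `X` moves `a`, `t • a` to any two of the fixed points of `X`. -/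
theorem centralizer_two_transitive {X : Set G} (hX : X ⊆ (𝔇 : Set G))
    (h3 : ∃ c : Ω, c ≠ a ∧ c ≠ t • a ∧ ∀ x ∈ X, x • c = c)
    {c₁ c₂ : Ω} (h1 : ∀ x ∈ X, x • c₁ = c₁) (h2 : ∀ x ∈ X, x • c₂ = c₂) (hne : c₁ ≠ c₂) :
    ∃ g ∈ Subgroup.centralizer X, g • a = c₁ ∧ g • (t • a) = c₂ := by
  obtain ⟨c, hca, hcb, hc⟩ := h3
  have move : ∃ g ∈ Subgroup.centralizer X, g • a = c₁ := by
    by_cases hb : c₁ = t • a
    · obtain ⟨g, hg, -, hga⟩ := exists_centralizing_moving hS hX hc hcb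
      obtain ⟨y, hy, he⟩ := exists_Q_centralizing hS hX hc hca
      refine ⟨y⁻¹ * g, mul_mem (inv_mem hy.1) hg, ?_⟩
      rw [mul_smul, hga, ← he, inv_smul_smul, hb]
    · obtain ⟨g, hg, -, hga⟩ := exists_centralizing_moving hS hX h1 hb
      exact ⟨g, hg, hga⟩
  obtain ⟨g, hg, hga⟩ := move
  have hgc : ∀ x ∈ X, x • (g⁻¹ • c₂) = g⁻¹ • c₂ := fun x hx => by
    rw [← mul_smul, Subgroup.mem_centralizer_iff.1 (inv_mem hg) x hx, mul_smul, h2 x hx]
  obtain ⟨y, hy, he⟩ := exists_Q_centralizing hS hX hgc (fun h => hne (by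
    rw [← hga, ← h, smul_inv_smul]))
  exact ⟨g * y, mul_mem hg hy.1, by rw [mul_smul, Q_fix hS hy.2, hga],
    by rw [mul_smul, he, smul_inv_smul]⟩

theorem exists_third {X : Set G} (h3 : ∃ b c d : Ω, b ≠ c ∧ b ≠ d ∧ c ≠ d ∧
    ∀ x ∈ X, x • b = b ∧ x • c = c ∧ x • d = d) :
    ∃ c : Ω, c ≠ a ∧ c ≠ t • a ∧ ∀ x ∈ X, x • c = c := by
  obtain ⟨b, c, d, hbc, hbd, hcd, h⟩ := h3
  by_cases hb : b ≠ a ∧ b ≠ t • a
  · exact ⟨b, hb.1, hb.2, fun x hx => (h x hx).1⟩
  by_cases hc : c ≠ a ∧ c ≠ t • a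
  · exact ⟨c, hc.1, hc.2, fun x hx => (h x hx).2.1⟩
  refine ⟨d, ?_, ?_, fun x hx => (h x hx).2.2⟩
  · rintro rfl
    simp only [not_and, not_not] at hb hc
    exact hbc ((hb hbd).trans (hc hcd).symm)
  · rintro rfl
    simp only [not_and_or, not_not] at hb hc
    exact hbc ((hb.resolve_right hbd).trans (hc.resolve_right hcd).symm)

theorem exists_involution_centralizing {X : Set G} (hX : X ⊆ (𝔇 : Set G))
    (h3 : ∃ c : Ω, c ≠ a ∧ c ≠ t • a ∧ ∀ x ∈ X, x • c = c) :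
    ∃ s ∈ 𝔍, s ∈ Subgroup.centralizer X := by
  haveI : Fact (Nat.Prime 2) := ⟨Nat.prime_two⟩
  have hb : ∀ x ∈ X, x • (t • a) = t • a := fun x hx => (mem_D.1 (hX hx)).2
  have ha : ∀ x ∈ X, x • a = a := fun x hx => (mem_D.1 (hX hx)).1
  obtain ⟨g, hg, hga, hgb⟩ := centralizer_two_transitive hS hX h3 hb ha (t_smul_ne hS)
  -- some element of the centralizer exchanges two points, so it has even order
  have heven : 2 ∣ orderOf g := by
    by_contra hodd
    obtain ⟨j, hj⟩ := Nat.odd_iff.2 (show orderOf g % 2 = 1 by omega)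
    have h2 : (g ^ 2) • a = a := by rw [sq, mul_smul, hga, hgb]
    have h : g ^ orderOf g • a = a := by rw [pow_orderOf_eq_one, one_smul]
    rw [hj, pow_succ', pow_mul, mul_smul] at h
    have h3 : (g ^ 2) ^ j • a = a := (pow_mem (show g ^ 2 ∈ stabilizer G a from h2) j : _)
    rw [h3, hga] at h
    exact t_smul_ne hS h
  obtain ⟨u, hu⟩ := exists_prime_orderOf_dvd_card' (G := ↥(Subgroup.centralizer X)) 2
    (heven.trans (Subgroup.orderOf_dvd_natCard _ hg))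
  have hu2 : orderOf (u : G) = 2 := by rw [Subgroup.orderOf_coe, hu]
  have huu : (u : G) * u = 1 := by rw [← sq, ← hu2, pow_orderOf_eq_one]
  have hu1 : (u : G) ≠ 1 := fun h => by rw [h, orderOf_one] at hu2; omega
  obtain ⟨c, hc⟩ := exists_fix hS huu
  have hcX : ∀ x ∈ X, x • c = c := fun x hx =>
    fix_of_commute hS hu1 huu hc (Subgroup.mem_centralizer_iff.1 u.2 x hx)
  obtain ⟨w, hw, hwc⟩ : ∃ w ∈ Subgroup.centralizer X, w • a = c := by
    by_cases hca : c = a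
    · exact ⟨1, one_mem _, by rw [one_smul, hca]⟩
    · obtain ⟨w, hw, hwa, -⟩ := centralizer_two_transitive hS hX h3 hcX ha hca
      exact ⟨w, hw, hwa⟩
  refine ⟨w⁻¹ * u * w⁻¹⁻¹, ⟨?_, conj_involution hS hu1 huu w⁻¹⟩,
    mul_mem (mul_mem (inv_mem hw) u.2) (inv_mem (inv_mem hw))⟩
  show (w⁻¹ * u * w⁻¹⁻¹) • a = a
  rw [inv_inv, mul_smul, hwc, mul_smul, hc, ← hwc, inv_smul_smul]

theorem conj_into {X : Set G} (hX : X ⊆ (𝔇 : Set G))
    (h3 : ∃ c : Ω, c ≠ a ∧ c ≠ t • a ∧ ∀ x ∈ X, x • c = c) :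
    ∃ k ∈ 𝔇, ∀ x ∈ X, (k * x * k⁻¹) * t = t * (k * x * k⁻¹) := by
  obtain ⟨s', hs', hsX⟩ := exists_involution_centralizing hS hX h3
  obtain ⟨⟨s, r⟩, ⟨hs, hr, he⟩, -⟩ := structure_equation hS
  obtain ⟨k, ⟨hk, hke⟩, -⟩ := exists_unique_K hS hs hs'
  refine ⟨k, hk.1, fun x hx => ?_⟩
  refine (centralizer_distinguished hS hs hr he
    (mul_mem (mul_mem hk.1 (hX hx)) (inv_mem hk.1))).2 ?_
  have h := Subgroup.mem_centralizer_iff.1 hsX x hx
  rw [← hke] at h
  dsimp only at h ⊢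
  calc k * x * k⁻¹ * s = k * (x * (k⁻¹ * s * k)) * k⁻¹ := by group
    _ = k * (k⁻¹ * s * k * x) * k⁻¹ := by rw [h]
    _ = s * (k * x * k⁻¹) := by group

/-- A subset of `V = C_D(t)` fixes three points. -/
theorem third_of_centralizes {X : Set G} (hX : ∀ x ∈ X, x * t = t * x) :
    ∃ c : Ω, c ≠ a ∧ c ≠ t • a ∧ ∀ x ∈ X, x • c = c := by
  obtain ⟨c, hc⟩ := exists_fix hS hS.mul_self
  refine ⟨c, fun h => t_smul_ne hS (h ▸ hc), fun h => t_smul_ne hS ?_, fun x hx =>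
    fix_of_commute hS hS.ne_one hS.mul_self hc (hX x hx)⟩
  rw [h, t_smul_ta hS] at hc
  exact hc.symm

/-- An inverted element fixing three points is trivial. -/
theorem inverted_eq_one {x : G} (hx : x ∈ 𝔎)
    (h3 : ∃ c : Ω, c ≠ a ∧ c ≠ t • a ∧ x • c = c) : x = 1 := by
  obtain ⟨c, hca, hcb, hc⟩ := h3
  obtain ⟨d, hd, hdx⟩ := conj_into hS (X := {x}) (Set.singleton_subset_iff.2 hx.1)
    ⟨c, hca, hcb, fun y hy => hy ▸ hc⟩
  obtain ⟨v, k, hv, hvt, hk, rfl⟩ := D_split hS hd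
  have h := hdx x rfl
  set y := k * x * k⁻¹ with hyd
  have hyt : y * t = t * y := by
    refine mul_left_cancel (a := v) (mul_right_cancel (b := v⁻¹) ?_)
    calc v * (y * t) * v⁻¹ = (v * k * x * (v * k)⁻¹) * (v * t * v⁻¹) := by rw [hyd]; group
      _ = (v * k * x * (v * k)⁻¹) * t := by rw [hvt, mul_inv_cancel_right]
      _ = t * (v * k * x * (v * k)⁻¹) := h
      _ = (v * t * v⁻¹) * (v * k * x * (v * k)⁻¹) := by rw [hvt, mul_inv_cancel_right]
      _ = v * (t * y) * v⁻¹ := by rw [hyd]; group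
  refine eq_one_of_conj_eq_inv (k := k ^ 2) ((D_odd hS hk.1).of_dvd_nat (orderOf_pow_dvd _))
    (D_odd hS hx.1) ?_
  have h2 : k⁻¹ * x⁻¹ * k = k * x * k⁻¹ := by
    calc k⁻¹ * x⁻¹ * k = (t * k * t⁻¹) * (t * x * t⁻¹) * (t * k * t⁻¹)⁻¹ := by
          rw [hk.2, hx.2, inv_inv]
      _ = t * y * t⁻¹ := by rw [hyd]; group
      _ = y := by rw [← hyt, mul_inv_cancel_right]
  calc k ^ 2 * x * (k ^ 2)⁻¹ = k * (k * x * k⁻¹) * k⁻¹ := by simp [sq, mul_assoc]
    _ = x⁻¹ := by rw [← h2]; group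

end CfsgLib.Lie.RankOne
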