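/-
Additive, biadditive and quadratic maps on a finite field of characteristic two are spanned by automorphisms.
-/
import Mathlib.LinearAlgebra.LinearIndependent.Lemmas
import Mathlib.FieldTheory.Finite.Basic
import Mathlib.FieldTheory.Perfect
import Mathlib.LinearAlgebra.FreeModule.Finite.Basic
import Mathlib.LinearAlgebra.Dimension.Free
import Mathlib.RingTheory.Polynomial.Basic
import Mathlib.Algebra.Module.ZMod
import Mathlib.Algebra.Algebra.ZMod

set_option autoImplicit false

namespace CfsgLib.Lie.FrobSpan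

theorem linearIndependent_aut {F : Type*} [Field F] :
    LinearIndependent F (fun σ : F ≃+* F => ((σ : F →+* F) : F → F)) :=
  (linearIndependent_monoidHom F F).comp (fun σ : F ≃+* F => ((σ : F →+* F).toMonoidHom : F →* F))
    (fun σ τ h => RingEquiv.ext fun x => DFunLike.congr_fun h x)

/-- a family of coefficient-pair terms as a finite sum over distinct pairs -/
theorem exists_finset_sum {α β F : Type*} [Fintype α] [CommSemiring F] (p : α → β) (e : α → F) :
    ∃ (s : Finset β) (c : β → F), ∀ v : β → F, ∑ k, e k * v (p k) = ∑ q ∈ s, c q * v q := by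
  classical
  refine ⟨Finset.univ.image p, fun q => ∑ k ∈ Finset.univ.filter (fun k => p k = q), e k, fun v => ?_⟩
  rw [← Finset.sum_fiberwise_of_maps_to (g := p) (t := Finset.univ.image p)
    fun k _ => Finset.mem_image_of_mem p (Finset.mem_univ k)]
  refine Finset.sum_congr rfl fun q _ => ?_
  rw [Finset.sum_mul]
  exact Finset.sum_congr rfl fun k hk => by rw [(Finset.mem_filter.1 hk).2]

variable {F : Type*} [Field F] [Fintype F] [CharP F 2]

/-- the automorphism `x ↦ x ^ (2 ^ i)` -/
noncomputable def frob (i : ℕ) : F ≃+* F :=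
  haveI : PerfectRing F 2 := PerfectRing.ofFiniteOfIsReduced (p := 2) F
  iterateFrobeniusEquiv F 2 i

theorem frob_apply (i : ℕ) (x : F) : frob i x = x ^ (2 ^ i) := by
  haveI : PerfectRing F 2 := PerfectRing.ofFiniteOfIsReduced (p := 2) F
  exact iterateFrobeniusEquiv_def F 2 i x

theorem exists_frob_family : ∃ n : ℕ, LinearIndependent F (fun i : Fin n => ((frob (F := F) i : F →+* F) : F → F)) ∧
    ∀ f : F →+ F, ∃ c : Fin n → F, ∀ x, f x = ∑ i, c i * frob (i : ℕ) x := by
  classical
  obtain ⟨⟨n, hn⟩, _, hcard⟩ := FiniteField.card F 2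
  dsimp only [PNat.mk_coe] at hcard
  have hinj : Function.Injective fun i : Fin n => frob (F := F) i := by
    intro i j h
    wlog hij : (i : ℕ) ≤ j generalizing i j
    · exact (this h.symm (le_of_not_ge hij)).symm
    by_contra hne
    have hlt : (i : ℕ) < j := lt_of_le_of_ne hij fun e => hne (Fin.ext e)
    have h0 : ∀ x : F, x ^ (2 ^ ((j : ℕ) - i)) = x := by
      intro x
      have h1 : frob (i : ℕ) x = frob (j : ℕ) x := RingEquiv.congr_fun h x
      apply (frob (F := F) i).injective
      rw [h1, frob_apply, frob_apply, ← pow_mul, ← pow_add, Nat.sub_add_cancel hij]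
    obtain ⟨g, hg⟩ := IsCyclic.exists_ofOrder_eq_natCard (α := Fˣ)
    have h2 : g ^ (2 ^ ((j : ℕ) - i) - 1) = 1 := by
      apply mul_right_cancel (b := g)
      rw [← pow_succ, Nat.sub_add_cancel (Nat.one_le_two_pow), one_mul]
      exact Units.ext (by rw [Units.val_pow_eq_pow_val]; exact h0 g)
    have h3 := Nat.le_of_dvd (Nat.sub_pos_of_lt (Nat.one_lt_two_pow (by omega))) (orderOf_dvd_of_pow_eq_one h2)
    rw [hg, Nat.card_units, Nat.card_eq_fintype_card, hcard] at h3
    have h4 : 2 ^ ((j : ℕ) - i) < 2 ^ n := Nat.pow_lt_pow_right (by norm_num) (by omega)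
    have := Nat.one_le_two_pow (n := (j : ℕ) - i)
    omega
  have hli : LinearIndependent F (fun i : Fin n => ((frob (F := F) i : F →+* F) : F → F)) :=
    linearIndependent_aut.comp _ hinj
  refine ⟨n, hli, ?_⟩
  let Φ : (Fin n → F) → (F →+ F) := fun c => ∑ i, (AddMonoidHom.mulLeft (c i)).comp (frob (F := F) i).toAddMonoidHom
  have hΦ : ∀ c x, Φ c x = ∑ i, c i * frob (i : ℕ) x := fun c x => by simp [Φ]
  have hΦinj : Function.Injective Φ := by
    intro c d h
    funext i
    have h1 : ∑ j, (c j - d j) • ((frob (F := F) j : F →+* F) : F → F) = 0 := by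
      funext x
      simp only [Finset.sum_apply, Pi.smul_apply, smul_eq_mul, sub_mul, Finset.sum_sub_distrib, Pi.zero_apply,
        RingEquiv.coe_toRingHom]
      rw [← hΦ, ← hΦ, h, sub_self]
    exact sub_eq_zero.1 (Fintype.linearIndependent_iff.1 hli _ h1 i)
  letI : Algebra (ZMod 2) F := ZMod.algebra F 2
  let b := Module.finBasis (ZMod 2) F
  let Ψ : (F →+ F) → (Fin (Module.finrank (ZMod 2) F) → F) := fun f i => f (b i)
  have hΨ : Function.Injective Ψ := by
    intro f g h
    have h' : f.toZModLinearMap 2 = g.toZModLinearMap 2 := b.ext fun i => congrFun h i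
    exact AddMonoidHom.ext fun x => LinearMap.congr_fun h' x
  haveI : Finite (F →+ F) := Finite.of_injective Ψ hΨ
  have hdim : Module.finrank (ZMod 2) F = n := by
    have h1 := Module.card_eq_pow_finrank (K := ZMod 2) (V := F)
    rw [ZMod.card, hcard] at h1
    exact (Nat.pow_right_injective le_rfl h1).symm
  have hle : Nat.card (F →+ F) ≤ Nat.card (Fin n → F) := by
    have := Nat.card_le_card_of_injective Ψ hΨ
    rwa [hdim] at this
  intro f
  obtain ⟨c, rfl⟩ := (Nat.bijective_iff_injective_and_card Φ).2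
    ⟨hΦinj, le_antisymm (Nat.card_le_card_of_injective Φ hΦinj) hle⟩ |>.2 f
  exact ⟨c, hΦ c⟩

theorem frob_coef_unique {n : ℕ} (hli : LinearIndependent F (fun i : Fin n => ((frob (F := F) i : F →+* F) : F → F)))
    {c d : Fin n → F} (h : ∀ x, ∑ i, c i * frob (i : ℕ) x = ∑ i, d i * frob (i : ℕ) x) : c = d := by
  funext i
  have h1 : ∑ j, (c j - d j) • ((frob (F := F) j : F →+* F) : F → F) = 0 := by
    funext x
    simp only [Finset.sum_apply, Pi.smul_apply, smul_eq_mul, sub_mul, Finset.sum_sub_distrib, Pi.zero_apply,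
      RingEquiv.coe_toRingHom]
    rw [h, sub_self]
  exact sub_eq_zero.1 (Fintype.linearIndependent_iff.1 hli _ h1 i)

theorem exists_bilin {n : ℕ} (hli : LinearIndependent F (fun i : Fin n => ((frob (F := F) i : F →+* F) : F → F)))
    (hsp : ∀ f : F →+ F, ∃ c : Fin n → F, ∀ x, f x = ∑ i, c i * frob (i : ℕ) x) (B : F →+ F →+ F) :
    ∃ e : Fin n → Fin n → F, ∀ x y, B x y = ∑ j, ∑ i, e i j * (frob (i : ℕ) x * frob (j : ℕ) y) := by
  choose c hc using fun x => hsp (B x)
  have hadd : ∀ x x', c (x + x') = c x + c x' := fun x x' => frob_coef_unique hli fun y => by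
    rw [← hc, map_add, AddMonoidHom.add_apply, hc, hc, ← Finset.sum_add_distrib]
    exact Finset.sum_congr rfl fun i _ => by rw [Pi.add_apply, add_mul]
  let g : Fin n → (F →+ F) := fun j => AddMonoidHom.mk' (fun x => c x j) fun x x' => by
    rw [hadd]; rfl
  choose e he using fun j => hsp (g j)
  refine ⟨fun i j => e j i, fun x y => ?_⟩
  rw [hc x y]
  refine Finset.sum_congr rfl fun j _ => ?_
  rw [show c x j = g j x from rfl, he j, Finset.sum_mul]
  exact Finset.sum_congr rfl fun i _ => by ring

theorem span_bilin (B : F →+ F →+ F) :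
    ∃ (s : Finset ((F ≃+* F) × (F ≃+* F))) (c : (F ≃+* F) × (F ≃+* F) → F),
      ∀ x y : F, B x y = ∑ p ∈ s, c p * (p.1 x * p.2 y) := by
  obtain ⟨n, hli, hsp⟩ := exists_frob_family (F := F)
  obtain ⟨e, he⟩ := exists_bilin hli hsp B
  obtain ⟨s, c, hc⟩ := exists_finset_sum (fun p : Fin n × Fin n => (frob (F := F) p.1, frob (F := F) p.2))
    (fun p => e p.1 p.2)
  refine ⟨s, c, fun x y => ?_⟩
  rw [he, ← hc fun p => p.1 x * p.2 y, Fintype.sum_prod_type, Finset.sum_comm]

theorem span_add (f : F →+ F) :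
    ∃ (s : Finset (F ≃+* F)) (c : (F ≃+* F) → F), ∀ x : F, f x = ∑ σ ∈ s, c σ * σ x := by
  obtain ⟨n, _, hsp⟩ := exists_frob_family (F := F)
  obtain ⟨e, he⟩ := hsp f
  obtain ⟨s, c, hc⟩ := exists_finset_sum (fun i : Fin n => frob (F := F) i) e
  exact ⟨s, c, fun x => by rw [he, ← hc fun σ => σ x]⟩

theorem span_quad (q : F → F)
    (hq : ∀ x y z : F, q (x + y + z) + q (x + y) + q (x + z) + q (y + z) + q x + q y + q z = 0) :
    ∃ (s : Finset ((F ≃+* F) × (F ≃+* F))) (c : (F ≃+* F) × (F ≃+* F) → F),
      ∀ x : F, q x = ∑ p ∈ s, c p * (p.1 x * p.2 x) := by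
  classical
  obtain ⟨n, hli, hsp⟩ := exists_frob_family (F := F)
  have t2 : (2 : F) = 0 := CharP.cast_eq_zero F 2
  have hadd1 : ∀ x y z, q (x + (y + z)) + q x + q (y + z) = (q (x + y) + q x + q y) + (q (x + z) + q x + q z) := by
    intro x y z
    have := hq x y z
    rw [← add_assoc x y z]
    linear_combination this - (q (x + y) + q (x + z) + q x + q y + q z) * t2
  have hadd2 : ∀ x x' y, q (x + x' + y) + q (x + x') + q y = (q (x + y) + q x + q y) + (q (x' + y) + q x' + q y) := by
    intro x x' y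
    have := hq x x' y
    linear_combination this - (q (x + y) + q (x' + y) + q x + q x' + q y) * t2
  let B : F →+ F →+ F := AddMonoidHom.mk' (fun x => AddMonoidHom.mk' (fun y => q (x + y) + q x + q y) (hadd1 x))
    fun x x' => by ext y; exact hadd2 x x' y
  obtain ⟨e, he⟩ := exists_bilin hli hsp B
  have hsym : ∀ i j, e i j = e j i := by
    intro i j
    have h1 : ∀ x y, ∑ j, (∑ i, e i j * frob (i : ℕ) x) * frob (j : ℕ) y =
        ∑ j, (∑ i, e j i * frob (i : ℕ) x) * frob (j : ℕ) y := by
      intro x y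
      have hB : B x y = B y x := show q (x + y) + q x + q y = q (y + x) + q y + q x by rw [add_comm y x]; ring
      rw [he, he, Finset.sum_comm (f := fun j i => e i j * (frob (i : ℕ) y * frob (j : ℕ) x))] at hB
      simp only [Finset.sum_mul]
      calc ∑ j, ∑ i, e i j * frob (i : ℕ) x * frob (j : ℕ) y
          = ∑ j, ∑ i, e i j * (frob (i : ℕ) x * frob (j : ℕ) y) := by simp only [mul_assoc]
        _ = _ := hB
        _ = _ := Finset.sum_congr rfl fun j _ => Finset.sum_congr rfl fun i _ => by ring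
    have h2 : (fun i => e i j) = fun i => e j i :=
      frob_coef_unique hli fun x => congrFun (frob_coef_unique hli (h1 x)) j
    exact congrFun h2 i
  have hdiag : ∀ i, e i i = 0 := by
    have hq0 : q 0 = 0 := by
      have := hq 0 0 0; simp only [add_zero] at this
      linear_combination this - 3 * q 0 * t2
    have h0 : ∀ x, ∑ i, e i i * (frob (i : ℕ) x * frob (i : ℕ) x) = 0 := by
      intro x
      have h := he x x
      rw [show B x x = q (x + x) + q x + q x from rfl, show x + x = 0 from CharTwo.add_self_eq_zero x, hq0] at h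
      rw [show (0 : F) + q x + q x = 0 by linear_combination q x * t2, ← Fintype.sum_prod_type'] at h
      have hkey : ∑ p ∈ (Finset.univ : Finset (Fin n × Fin n)).filter (fun p => p.1 ≠ p.2),
          e p.2 p.1 * (frob (p.2 : ℕ) x * frob (p.1 : ℕ) x) = 0 := by
        refine Finset.sum_involution (fun p _ => (p.2, p.1)) (fun p _ => ?_) (fun p hp _ h => ?_)
          (fun p hp => ?_) (fun p _ => rfl)
        · rw [hsym p.1 p.2]; linear_combination (e p.2 p.1 * (frob (p.2 : ℕ) x * frob (p.1 : ℕ) x)) * t2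
        · exact (Finset.mem_filter.1 hp).2 (Prod.ext_iff.1 h).1.symm
        · exact Finset.mem_filter.2 ⟨Finset.mem_univ _, Ne.symm (Finset.mem_filter.1 hp).2⟩
      rw [← Finset.sum_filter_add_sum_filter_not _ (fun p : Fin n × Fin n => p.1 ≠ p.2), hkey, zero_add] at h
      rw [h]
      refine Finset.sum_bij' (fun i _ => (i, i)) (fun p _ => p.1) (fun i _ => by simp) (fun p _ => Finset.mem_univ _)
        (fun i _ => rfl) (fun p hp => ?_) (fun i _ => rfl)
      simp only [Finset.mem_filter, not_not] at hp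
      exact Prod.ext rfl hp.2
    intro i
    have h2 : (fun i => e i i) = fun _ => 0 := frob_coef_unique hli fun z => by
      obtain ⟨w, rfl⟩ := (frob (F := F) 1).surjective z
      simp only [zero_mul, Finset.sum_const_zero]
      rw [← h0 w]
      exact Finset.sum_congr rfl fun i _ => by rw [← map_mul, frob_apply 1, pow_one, sq]
    exact congrFun h2 i
  let half : Fin n × Fin n → F := fun p => if p.1 < p.2 then e p.1 p.2 else 0
  let Q : F → F := fun x => ∑ p, half p * (frob (p.1 : ℕ) x * frob (p.2 : ℕ) x)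
  have hQ : ∀ x y, Q (x + y) + Q x + Q y = B x y := by
    intro x y
    rw [he x y, Finset.sum_comm, ← Fintype.sum_prod_type']
    have h1 : ∀ p : Fin n × Fin n, e p.1 p.2 = half p + half (p.2, p.1) := by
      intro p
      rcases lt_trichotomy p.1 p.2 with h | h | h
      · simp [half, h, not_lt_of_gt h]
      · simp [half, h, hdiag]
      · simp [half, h, not_lt_of_gt h, hsym]
    simp only [h1, add_mul, Finset.sum_add_distrib]
    rw [← (Equiv.prodComm (Fin n) (Fin n)).sum_comp
      (fun p : Fin n × Fin n => half (p.2, p.1) * (frob (p.1 : ℕ) x * frob (p.2 : ℕ) y))]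
    simp only [Q, Equiv.prodComm_apply, Prod.fst_swap, Prod.snd_swap, Prod.mk.eta, map_add]
    rw [← Finset.sum_add_distrib, ← Finset.sum_add_distrib, ← Finset.sum_add_distrib]
    refine Finset.sum_congr rfl fun p _ => ?_
    linear_combination half p * (frob (p.1 : ℕ) x * frob (p.2 : ℕ) x + frob (p.1 : ℕ) y * frob (p.2 : ℕ) y) * t2
  let r : F →+ F := AddMonoidHom.mk' (fun x => q x + Q x) fun x y => by
    have h1 : q (x + y) + q x + q y = Q (x + y) + Q x + Q y := (hQ x y).symm
    linear_combination h1 + (Q (x + y) - q x - q y) * t2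
  let g : F →+ F := r.comp (frob (F := F) 1).symm.toAddMonoidHom
  obtain ⟨d, hd⟩ := hsp g
  obtain ⟨s, c, hc⟩ := exists_finset_sum
    (Sum.elim (fun p : Fin n × Fin n => (frob (F := F) p.1, frob (F := F) p.2))
      (fun i : Fin n => (frob (F := F) i, frob (F := F) i)))
    (Sum.elim half d)
  refine ⟨s, c, fun x => ?_⟩
  rw [← hc fun p => p.1 x * p.2 x, Fintype.sum_sum_type]
  simp only [Sum.elim_inl, Sum.elim_inr]
  have h2 : g (frob 1 x) = q x + Q x := by simp [g, r]
  rw [hd] at h2
  have h3 : ∑ i, d i * frob (i : ℕ) (frob 1 x) = ∑ i, d i * (frob (i : ℕ) x * frob (i : ℕ) x) :=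
    Finset.sum_congr rfl fun i _ => by rw [frob_apply 1, pow_one, sq, map_mul]
  rw [h3] at h2
  show q x = Q x + _
  linear_combination -h2 - (Q x) * t2

end CfsgLib.Lie.FrobSpan
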