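/-
Groups generated by involutions satisfying the exchange condition, and the proof that
they are Coxeter groups (via Matsumoto's word argument).
-/
import Mathlib

set_option autoImplicit false

namespace CfsgLib.Lie.Exchange

variable {W ι : Type*} [Group W] (f : ι → W)

/-- product of a word -/
def wprod (l : List ι) : W := (l.map f).prod

@[simp] theorem wprod_nil : wprod f ([] : List ι) = 1 := rfl
@[simp] theorem wprod_cons (i : ι) (l : List ι) : wprod f (i :: l) = f i * wprod f l := by simp [wprod]
@[simp] theorem wprod_append (l l' : List ι) : wprod f (l ++ l') = wprod f l * wprod f l' := by simp [wprod]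

/-- length w.r.t. the generators -/
noncomputable def wlen (w : W) : ℕ := sInf {k | ∃ l : List ι, l.length = k ∧ wprod f l = w}

/-- a word of least length for its product -/
def WReduced (l : List ι) : Prop := wlen f (wprod f l) = l.length

theorem wlen_le (l : List ι) : wlen f (wprod f l) ≤ l.length := Nat.sInf_le ⟨l, rfl, rfl⟩

theorem wlen_one : wlen f (1 : W) = 0 := by simpa using wlen_le f []

/-- generation by involutions -/
structure GenInv : Prop where
  sq : ∀ i, f i * f i = 1
  gen : ∀ w, ∃ l, wprod f l = w

variable {f}

theorem GenInv.inv (h : GenInv f) (i : ι) : (f i)⁻¹ = f i := inv_eq_of_mul_eq_one_left (h.sq i)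

theorem GenInv.cancel (h : GenInv f) (i : ι) (w : W) : f i * (f i * w) = w := by
  rw [← mul_assoc, h.sq, one_mul]

theorem GenInv.cancel_right (h : GenInv f) (i : ι) (w : W) : w * f i * f i = w := by
  rw [mul_assoc, h.sq, mul_one]

theorem GenInv.exists_reduced (h : GenInv f) (w : W) : ∃ l, wprod f l = w ∧ l.length = wlen f w := by
  have hne : {k | ∃ l : List ι, l.length = k ∧ wprod f l = w}.Nonempty := by
    obtain ⟨l, hl⟩ := h.gen w; exact ⟨_, l, rfl, hl⟩
  obtain ⟨l, h1, h2⟩ := Nat.sInf_mem hne
  exact ⟨l, h2, h1⟩

theorem GenInv.wlen_eq_zero (h : GenInv f) {w : W} (hw : wlen f w = 0) : w = 1 := by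
  obtain ⟨l, h1, h2⟩ := h.exists_reduced w
  rw [hw] at h2
  rw [← h1, List.length_eq_zero_iff.1 h2, wprod_nil]

theorem GenInv.wprod_reverse (h : GenInv f) (l : List ι) : wprod f l.reverse = (wprod f l)⁻¹ := by
  induction l with
  | nil => simp
  | cons a l ih => simp [ih, h.inv]

theorem GenInv.wlen_inv (h : GenInv f) (w : W) : wlen f w⁻¹ = wlen f w := by
  have key : ∀ v : W, wlen f v⁻¹ ≤ wlen f v := fun v => by
    obtain ⟨l, h1, h2⟩ := h.exists_reduced v
    rw [← h2, ← h1, ← h.wprod_reverse l, ← List.length_reverse (as := l)]
    exact wlen_le f _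
  refine le_antisymm (key w) ?_
  simpa using key w⁻¹

theorem GenInv.wlen_simple_mul_le (h : GenInv f) (i : ι) (w : W) : wlen f (f i * w) ≤ wlen f w + 1 := by
  obtain ⟨l, h1, h2⟩ := h.exists_reduced w
  rw [← h2, ← h1, ← wprod_cons f]; exact wlen_le f _

theorem GenInv.wlen_le_simple_mul (h : GenInv f) (i : ι) (w : W) : wlen f w ≤ wlen f (f i * w) + 1 := by
  have := h.wlen_simple_mul_le i (f i * w); rwa [h.cancel] at this

theorem GenInv.wlen_mul_simple_le (h : GenInv f) (i : ι) (w : W) : wlen f (w * f i) ≤ wlen f w + 1 := by
  have := h.wlen_simple_mul_le i w⁻¹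
  rwa [h.wlen_inv, ← h.wlen_inv, mul_inv_rev, inv_inv, h.inv] at this

theorem GenInv.reduced_of_cons (h : GenInv f) {i : ι} {l : List ι} (hr : WReduced f (i :: l)) :
    WReduced f l := by
  have h1 := h.wlen_simple_mul_le i (wprod f l)
  have h2 := wlen_le f l
  unfold WReduced at hr ⊢
  rw [wprod_cons, List.length_cons] at hr
  omega

theorem GenInv.reduced_of_concat (h : GenInv f) {i : ι} {l : List ι} (hr : WReduced f (l ++ [i])) :
    WReduced f l := by
  have h1 := h.wlen_mul_simple_le i (wprod f l)
  have h2 := wlen_le f l
  unfold WReduced at hr ⊢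
  simp only [wprod_append, wprod_cons, wprod_nil, mul_one, List.length_append, List.length_cons, List.length_nil] at hr
  omega

variable (f) in
/-- generating involutions with the exchange condition -/
structure ExSys : Prop extends GenInv f where
  inj : Function.Injective f
  ne_one : ∀ i, f i ≠ 1
  exch : ∀ (s : ι) (l : List ι), WReduced f l → wlen f (f s * wprod f l) ≤ wlen f (wprod f l) →
    ∃ l₁ x l₂, l = l₁ ++ x :: l₂ ∧ f s * wprod f l₁ = wprod f l₁ * f x

theorem ExSys.wlen_simple (h : ExSys f) (i : ι) : wlen f (f i) = 1 := by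
  have h1 : wlen f (f i) ≤ 1 := by simpa using wlen_le f [i]
  rcases Nat.eq_zero_or_pos (wlen f (f i)) with h0 | h0
  · exact absurd (h.toGenInv.wlen_eq_zero h0) (h.ne_one i)
  · omega

theorem ExSys.reduced_singleton (h : ExSys f) (i : ι) : WReduced f [i] := by
  simp [WReduced, h.wlen_simple]

theorem ExSys.exch_delete (h : ExSys f) {s : ι} {l₁ l₂ : List ι} {x : ι}
    (he : f s * wprod f l₁ = wprod f l₁ * f x) :
    f s * wprod f (l₁ ++ x :: l₂) = wprod f (l₁ ++ l₂) := by
  rw [wprod_append, wprod_cons, ← mul_assoc, he, wprod_append]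
  simp only [mul_assoc, h.cancel]

/-- every element of the subgroup generated by part of the generators has a reduced word in that part -/
theorem ExSys.exists_reduced_of_mem_closure (h : ExSys f) {J : Set ι} {w : W}
    (hw : w ∈ Subgroup.closure (f '' J)) :
    ∃ l : List ι, (∀ x ∈ l, x ∈ J) ∧ wprod f l = w ∧ WReduced f l := by
  have step : ∀ (l : List ι), (∀ x ∈ l, x ∈ J) →
      ∃ l' : List ι, (∀ x ∈ l', x ∈ J) ∧ wprod f l' = wprod f l ∧ WReduced f l' := by
    intro l
    induction l with
    | nil => exact fun _ => ⟨[], by simp, rfl, by simp [WReduced, wlen_one]⟩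
    | cons s l ih =>
      intro hl
      obtain ⟨l', hJ, he, hr⟩ := ih fun x hx => hl x (List.mem_cons_of_mem _ hx)
      by_cases hc : WReduced f (s :: l')
      · exact ⟨s :: l', by simpa [hl s (List.mem_cons_self ..)] using hJ, by simp [he], hc⟩
      · have hle : wlen f (f s * wprod f l') ≤ wlen f (wprod f l') := by
          have h1 := h.wlen_simple_mul_le s (wprod f l')
          unfold WReduced at hc hr
          rw [wprod_cons, List.length_cons] at hc
          omega
        obtain ⟨l₁, x, l₂, rfl, hx⟩ := h.exch s l' hr hle
        refine ⟨l₁ ++ l₂, fun y hy => hJ y ?_, by rw [wprod_cons, ← he, h.exch_delete hx], ?_⟩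
        · simp only [List.mem_append, List.mem_cons] at hy ⊢; tauto
        · have h2 := h.wlen_le_simple_mul s (wprod f (l₁ ++ x :: l₂))
          have h3 := wlen_le f (l₁ ++ l₂)
          rw [h.exch_delete hx] at h2
          unfold WReduced at hr ⊢
          simp only [List.length_append, List.length_cons] at hr h3 ⊢
          omega
  suffices ∃ l : List ι, (∀ x ∈ l, x ∈ J) ∧ wprod f l = w by
    obtain ⟨l, h1, h2⟩ := this; rw [← h2]; exact step l h1
  induction hw using Subgroup.closure_induction with
  | mem x hx =>
    obtain ⟨i, hi, rfl⟩ := hx; exact ⟨[i], by simpa using hi, by simp⟩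
  | one => exact ⟨[], by simp, rfl⟩
  | mul x y _ _ hx hy =>
    obtain ⟨a, ha, rfl⟩ := hx; obtain ⟨b, hb, rfl⟩ := hy
    exact ⟨a ++ b, by simp only [List.mem_append]; rintro z (hz | hz); exacts [ha z hz, hb z hz], by simp⟩
  | inv x _ hx =>
    obtain ⟨a, ha, rfl⟩ := hx
    exact ⟨a.reverse, by simpa using ha, h.wprod_reverse a⟩

theorem ExSys.mem_of_simple_mem_closure (h : ExSys f) {J : Set ι} {s : ι}
    (hs : f s ∈ Subgroup.closure (f '' J)) : s ∈ J := by
  obtain ⟨l, hJ, he, hr⟩ := h.exists_reduced_of_mem_closure hs
  unfold WReduced at hr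
  rw [he, h.wlen_simple] at hr
  obtain ⟨a, rfl⟩ := List.length_eq_one_iff.1 hr.symm
  simp only [wprod_cons, wprod_nil, mul_one] at he
  rw [← h.inj he]; exact hJ a (List.mem_cons_self ..)

/-- all reduced words of an element of a parabolic subgroup use only its generators -/
theorem ExSys.support_subset (h : ExSys f) {J : Set ι} {l : List ι} (hr : WReduced f l)
    (hw : wprod f l ∈ Subgroup.closure (f '' J)) : ∀ x ∈ l, x ∈ J := by
  induction l with
  | nil => simp
  | cons s l ih =>
    obtain ⟨l', hJ, he, hr'⟩ := h.exists_reduced_of_mem_closure hw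
    have hle : wlen f (f s * wprod f l') ≤ wlen f (wprod f l') := by
      rw [he, wprod_cons, h.cancel]
      have := wlen_le f l
      unfold WReduced at hr; rw [wprod_cons, List.length_cons] at hr; omega
    obtain ⟨l₁, x, l₂, rfl, hx⟩ := h.exch s l' hr' hle
    have hs' : f s ∈ Subgroup.closure (f '' J) := by
      have hmem : ∀ m : List ι, (∀ y ∈ m, y ∈ J) → wprod f m ∈ Subgroup.closure (f '' J) := fun m hm =>
        list_prod_mem fun y hy => by
          obtain ⟨i, hi, rfl⟩ := List.mem_map.1 hy
          exact Subgroup.subset_closure ⟨i, hm i hi, rfl⟩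
      have e : f s = wprod f (l₁ ++ [x]) * (wprod f l₁)⁻¹ := by
        rw [eq_mul_inv_iff_mul_eq, hx]; simp
      rw [e]
      refine mul_mem (hmem _ ?_) (inv_mem (hmem _ ?_))
      · intro y hy; refine hJ y ?_; simp only [List.mem_append, List.mem_cons, List.not_mem_nil] at hy ⊢; tauto
      · intro y hy; refine hJ y ?_; simp only [List.mem_append, List.mem_cons] at hy ⊢; tauto
    have hw' : wprod f l ∈ Subgroup.closure (f '' J) := by
      have := mul_mem (inv_mem hs') hw; simpa using this
    intro y hy
    rcases List.mem_cons.1 hy with rfl | hy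
    · exact h.mem_of_simple_mem_closure hs'
    · exact ih (h.toGenInv.reduced_of_cons hr) hw' y hy

/-! ### Alternating words and the Coxeter presentation -/

/-- alternating word starting with `s` -/
def alt (s t : ι) : ℕ → List ι
  | 0 => []
  | k + 1 => s :: alt t s k

@[simp] theorem length_alt (s t : ι) (k : ℕ) : (alt s t k).length = k := by
  induction k generalizing s t with
  | zero => rfl
  | succ k ih => simp [alt, ih]

theorem alt_take (s t : ι) : ∀ {j k : ℕ}, j ≤ k → (alt s t k).take j = alt s t j
  | 0, _, _ => by simp [alt]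
  | j + 1, 0, h => absurd h (by omega)
  | j + 1, k + 1, h => by simp [alt, alt_take t s (j := j) (k := k) (by omega)]

theorem alt_mul_inv {H : Type*} [Group H] {g : ι → H} (hg : GenInv g) (s t : ι) (k : ℕ) :
    wprod g (alt s t k) * (wprod g (alt t s k))⁻¹ = (g s * g t) ^ k := by
  induction k generalizing s t with
  | zero => simp [alt]
  | succ k ih =>
    have e : g s * (g t * g s) ^ k * g t = (g s * g t) ^ (k + 1) := by
      clear ih
      induction k with
      | zero => simp
      | succ j hj => rw [pow_succ (g s * g t) (j + 1), ← hj, pow_succ]; simp [mul_assoc]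
    rw [← e, ← ih t s]
    simp [alt, mul_assoc, hg.inv]

theorem ExSys.alt_prefix (h : ExSys f) {w : W} {s t : ι} {a b : List ι}
    (ha : WReduced f (s :: a)) (haw : wprod f (s :: a) = w)
    (hb : WReduced f (t :: b)) (hbw : wprod f (t :: b) = w) :
    ∀ k : ℕ, (orderOf (f s * f t) = 0 ∨ k ≤ orderOf (f s * f t)) →
      ∃ r, WReduced f (alt s t k ++ r) ∧ wprod f (alt s t k ++ r) = w := by
  have hdesc : ∀ (u : ι) (c : List ι), WReduced f (u :: c) → wprod f (u :: c) = w →
      wlen f (f u * w) ≤ wlen f w := by
    intro u c hc hcw
    rw [← hcw, wprod_cons, h.cancel]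
    have := wlen_le f c
    unfold WReduced at hc; rw [wprod_cons, List.length_cons] at hc; omega
  have main : ∀ k : ℕ, (orderOf (f s * f t) = 0 ∨ k ≤ orderOf (f s * f t)) →
      (∃ r, WReduced f (alt s t k ++ r) ∧ wprod f (alt s t k ++ r) = w) ∧
      (∃ r, WReduced f (alt t s k ++ r) ∧ wprod f (alt t s k ++ r) = w) := by
    intro k
    induction k with
    | zero => exact fun _ => ⟨⟨s :: a, ha, haw⟩, ⟨t :: b, hb, hbw⟩⟩
    | succ k ih =>
      intro hk
      obtain ⟨h1, h2⟩ := ih (hk.imp id (fun h => by omega))
      have grow : ∀ (u v : ι) (c : List ι), WReduced f (v :: c) → wprod f (v :: c) = w →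
          (orderOf (f u * f v) = 0 ∨ k + 1 ≤ orderOf (f u * f v)) →
          (∃ r, WReduced f (alt u v k ++ r) ∧ wprod f (alt u v k ++ r) = w) →
          ∃ r, WReduced f (alt v u (k + 1) ++ r) ∧ wprod f (alt v u (k + 1) ++ r) = w := by
        intro u v c hc hcw hord ⟨r, hr, hrw⟩
        obtain ⟨l₁, x, l₂, hl, hx⟩ := h.exch v _ hr (by rw [hrw]; exact hdesc v c hc hcw)
        by_cases hlen : k ≤ l₁.length
        · obtain ⟨r', hr'⟩ : ∃ r', l₁ = alt u v k ++ r' := by
            refine ⟨l₁.drop k, ?_⟩
            have e : (alt u v k ++ r).take k = (l₁ ++ x :: l₂).take k := by rw [hl]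
            rw [List.take_left' (length_alt u v k), List.take_append_of_le_length hlen] at e
            rw [e, List.take_append_drop]
          subst hr'
          have hw' : wprod f (alt v u (k + 1) ++ (r' ++ l₂)) = w := by
            have h3 : f v * w = wprod f ((alt u v k ++ r') ++ l₂) := by
              rw [← hrw, hl, h.exch_delete hx]
            show wprod f (v :: (alt u v k ++ (r' ++ l₂))) = w
            rw [wprod_cons, ← List.append_assoc, ← h3, h.cancel]
          refine ⟨r' ++ l₂, ?_, hw'⟩
          unfold WReduced at hr ⊢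
          rw [hw']; rw [hrw] at hr
          have := congrArg List.length hl
          simp only [List.length_append, List.length_cons, length_alt] at this hr ⊢
          omega
        · exfalso
          obtain ⟨j, hj⟩ : ∃ j, l₁.length = j := ⟨_, rfl⟩
          have hjk : j < k := by omega
          have e : (alt u v k ++ r).take (j + 1) = (l₁ ++ x :: l₂).take (j + 1) := by rw [hl]
          rw [List.take_append_of_le_length (by simp; omega), alt_take u v hjk] at e
          have e2 : (l₁ ++ x :: l₂).take (j + 1) = l₁ ++ [x] := by
            rw [List.take_append, List.take_of_length_le (by omega),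
              show j + 1 - l₁.length = 1 by omega]
            simp
          rw [e2] at e
          have e3 : alt u v j = l₁ := by
            rw [← alt_take u v (Nat.le_succ j), e, List.take_left' hj]
          have hp : wprod f (alt u v (j + 1)) = wprod f (alt v u (j + 1)) := by
            rw [e]
            show wprod f (l₁ ++ [x]) = wprod f (v :: alt u v j)
            rw [wprod_cons, e3, hx]; simp
          have h4 : (f u * f v) ^ (j + 1) = 1 := by
            rw [← alt_mul_inv h.toGenInv, hp, mul_inv_cancel]
          have h5 := orderOf_dvd_of_pow_eq_one h4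
          rcases hord with h0 | h0
          · rw [h0] at h5; simp at h5
          · have := Nat.le_of_dvd (by omega) h5; omega
      have hsym : orderOf (f t * f s) = orderOf (f s * f t) := by
        rw [← orderOf_inv (f t * f s), mul_inv_rev, h.inv, h.inv]
      exact ⟨grow t s a ha haw (by rwa [hsym]) h2, grow s t b hb hbw hk h1⟩
  exact fun k hk => (main k hk).1

/-- Matsumoto: two reduced words with the same product agree in any group where the braid relations hold -/
theorem ExSys.matsumoto (h : ExSys f) {H : Type*} [Group H] {g : ι → H} (hg : GenInv g)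
    (hrel : ∀ s t, (g s * g t) ^ orderOf (f s * f t) = 1) :
    ∀ a b : List ι, WReduced f a → WReduced f b → wprod f a = wprod f b → wprod g a = wprod g b := by
  intro a
  induction hn : a.length using Nat.strong_induction_on generalizing a with
  | _ n ih =>
    intro b ha hb hab
    have hlen : b.length = a.length := by
      unfold WReduced at ha hb; rw [← ha, ← hb, hab]
    match a, b with
    | [], [] => rfl
    | [], _ :: _ => simp at hlen
    | _ :: _, [] => simp at hlen
    | s :: a, t :: b =>
      have same : ∀ (u : ι) (c d : List ι), c.length < n → WReduced f (u :: c) → WReduced f (u :: d) →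
          wprod f (u :: c) = wprod f (u :: d) → wprod g (u :: c) = wprod g (u :: d) := by
        intro u c d hc hrc hrd he
        simp only [wprod_cons, mul_right_inj] at he ⊢
        exact ih _ hc c rfl d (h.toGenInv.reduced_of_cons hrc) (h.toGenInv.reduced_of_cons hrd) he
      simp only [List.length_cons] at hn hlen
      by_cases hst : s = t
      · subst hst; exact same s a b (by omega) ha hb hab
      · have hw : ∀ k, (orderOf (f s * f t) = 0 ∨ k ≤ orderOf (f s * f t)) →
            ∃ r, WReduced f (alt s t k ++ r) ∧ wprod f (alt s t k ++ r) = wprod f (s :: a) :=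
          h.alt_prefix ha rfl hb hab.symm
        have hm0 : orderOf (f s * f t) ≠ 0 := by
          intro h0
          obtain ⟨r, hr, hrw⟩ := hw (n + 1) (Or.inl h0)
          unfold WReduced at hr ha
          rw [hrw, ha] at hr
          simp only [List.length_cons, List.length_append, length_alt] at hr
          omega
        obtain ⟨r, hr, hrw⟩ := hw (orderOf (f s * f t)) (Or.inr le_rfl)
        obtain ⟨j, hj⟩ := Nat.exists_eq_succ_of_ne_zero hm0
        have hbr : wprod f (alt s t (orderOf (f s * f t))) = wprod f (alt t s (orderOf (f s * f t))) := by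
          rw [← mul_inv_eq_one, alt_mul_inv h.toGenInv, pow_orderOf_eq_one]
        have hbg : wprod g (alt s t (orderOf (f s * f t))) = wprod g (alt t s (orderOf (f s * f t))) := by
          rw [← mul_inv_eq_one, alt_mul_inv hg, hrel]
        have hrw' : wprod f (alt t s (orderOf (f s * f t)) ++ r) = wprod f (s :: a) := by
          rw [← hrw, wprod_append, wprod_append, hbr]
        have hr' : WReduced f (alt t s (orderOf (f s * f t)) ++ r) := by
          unfold WReduced at hr ⊢
          rw [hrw']; rw [hrw] at hr
          simpa using hr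
        have e1 : wprod g (s :: a) = wprod g (alt s t (orderOf (f s * f t)) ++ r) := by
          rw [hj] at hr hrw ⊢
          exact same s a (alt t s j ++ r) (by omega) ha hr hrw.symm
        have e2 : wprod g (t :: b) = wprod g (alt t s (orderOf (f s * f t)) ++ r) := by
          rw [hj] at hr' hrw' ⊢
          exact same t b (alt s t j ++ r) (by omega) hb hr' (hab.symm.trans hrw'.symm)
        rw [e1, e2, wprod_append, wprod_append, hbg]

/-- the Coxeter matrix of the product orders -/
noncomputable def coxeterMatrixOf (h : ExSys f) : CoxeterMatrix ι where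
  M := Matrix.of fun i j => orderOf (f i * f j)
  isSymm := by
    ext i j
    simp only [Matrix.transpose_apply, Matrix.of_apply]
    rw [← orderOf_inv (f j * f i), mul_inv_rev, h.inv, h.inv]
  diagonal i := by simp [h.sq]
  off_diagonal i j hij := by
    intro hc
    simp only [Matrix.of_apply, orderOf_eq_one_iff] at hc
    exact hij (h.inj (by rw [eq_inv_of_mul_eq_one_left hc, h.inv]))

/-- a group generated by involutions with the exchange condition is a Coxeter group -/
theorem ExSys.exists_coxeterSystem (h : ExSys f) :
    ∃ cs : CoxeterSystem (coxeterMatrixOf h) W, ∀ i, cs.simple i = f i := by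
  let M := coxeterMatrixOf h
  let c₀ := M.toCoxeterSystem
  have hlift : M.IsLiftable f := fun i j => pow_orderOf_eq_one _
  let φ : M.Group →* W := c₀.lift ⟨f, hlift⟩
  have hφ : ∀ i, φ (c₀.simple i) = f i := fun i => c₀.lift_apply_simple hlift i
  have hg : GenInv c₀.simple := ⟨c₀.simple_mul_simple_self, fun w => by
    obtain ⟨l, hl⟩ := c₀.wordProd_surjective w; exact ⟨l, hl⟩⟩
  have hrel : ∀ s t, (c₀.simple s * c₀.simple t) ^ orderOf (f s * f t) = 1 :=
    fun s t => c₀.simple_mul_simple_pow s t
  have hφw : ∀ l, φ (wprod c₀.simple l) = wprod f l := fun l => by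
    induction l with
    | nil => simp
    | cons a l ih => simp [hφ, ih]
  choose red hredw hredl using h.toGenInv.exists_reduced
  have hred : ∀ w, WReduced f (red w) := fun w => by unfold WReduced; rw [hredw, hredl]
  let ψ : W → M.Group := fun w => wprod c₀.simple (red w)
  have hψ : ∀ l, WReduced f l → ψ (wprod f l) = wprod c₀.simple l := fun l hl =>
    h.matsumoto hg hrel _ _ (hred _) hl (hredw _)
  have hψs : ∀ (s : ι) (w : W), ψ (f s * w) = c₀.simple s * ψ w := by
    intro s w
    by_cases hc : wlen f w < wlen f (f s * w)
    · have hr : WReduced f (s :: red w) := by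
        have h1 := h.wlen_simple_mul_le s w
        unfold WReduced
        rw [wprod_cons, hredw, List.length_cons, hredl]; omega
      have := hψ _ hr
      rw [wprod_cons, hredw] at this
      exact this
    · have hlt : wlen f (f s * w) + 1 = wlen f w := by
        have h1 := h.wlen_le_simple_mul s w
        obtain ⟨l₁, x, l₂, hl, hx⟩ := h.exch s (red w) (hred w) (by rw [hredw]; omega)
        have h2 : f s * w = wprod f (l₁ ++ l₂) := by
          rw [← hredw w, hl, h.exch_delete hx]
        have h3 := wlen_le f (l₁ ++ l₂)
        have h4 := congrArg List.length hl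
        rw [← h2] at h3
        simp only [List.length_append, List.length_cons, hredl] at h3 h4
        omega
      have hr : WReduced f (s :: red (f s * w)) := by
        unfold WReduced
        rw [wprod_cons, hredw, h.cancel, List.length_cons, hredl]; omega
      have := hψ _ hr
      rw [wprod_cons, hredw, h.cancel] at this
      rw [this, wprod_cons, hg.cancel]
  have left_inv : ∀ x, ψ (φ x) = x := by
    intro x
    obtain ⟨l, rfl⟩ := hg.gen x
    rw [hφw]
    induction l with
    | nil =>
      have hr : WReduced f ([] : List ι) := by simp [WReduced, wlen_one]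
      simpa using hψ _ hr
    | cons a l ih => rw [wprod_cons, hψs, ih, wprod_cons]
  have right_inv : ∀ w, φ (ψ w) = w := fun w => by rw [hφw, hredw]
  let e : W ≃* M.Group :=
    (MulEquiv.mk' ⟨φ, ψ, left_inv, right_inv⟩ φ.map_mul : M.Group ≃* W).symm
  refine ⟨⟨e⟩, fun i => ?_⟩
  exact hφ i

end CfsgLib.Lie.Exchange
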