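/-
General theory of (B, N)-pairs: Bruhat decomposition, exchange condition for the Weyl group,
parabolic subgroups, Tits' simplicity criterion.
-/
import Cfsg.Prelude.Def_LieExceptional
import Cfsg.Agent.Lib.Lie.ExchangeGroup

set_option autoImplicit false

namespace CfsgLib.Lie.BN

open CfsgLib.Lie.Exchange
open scoped Pointwise

variable {G : Type*} [Group G] (P : Cfsg.BNPair G)

/-- `B ⊓ N` inside `N` -/
abbrev tSub : Subgroup P.N := (P.B ⊓ P.N).subgroupOf P.N

instance tSub_normal : (tSub P).Normal where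
  conj_mem x hx n := by
    simp only [Subgroup.mem_subgroupOf, Subgroup.mem_inf] at hx ⊢
    exact ⟨P.conj_mem n n.2 x ⟨hx.1, x.2⟩, (n * x * n⁻¹).2⟩

/-- the Weyl group -/
abbrev WeylGp : Type _ := P.N ⧸ tSub P

/-- class in the Weyl group -/
def wmk : P.N →* WeylGp P := QuotientGroup.mk' (tSub P)

theorem wmk_surjective : Function.Surjective (wmk P) := QuotientGroup.mk'_surjective _

/-- the lift of a distinguished generator -/
def sgen (s : P.S) : P.N := ⟨s, P.subset s.2⟩

/-- the distinguished involutions -/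
def wgen (s : P.S) : WeylGp P := wmk P (sgen P s)

theorem wmk_eq_one_iff (n : P.N) : wmk P n = 1 ↔ (n : G) ∈ P.B := by
  show (QuotientGroup.mk n : WeylGp P) = 1 ↔ _
  rw [QuotientGroup.eq_one_iff]
  simp [Subgroup.mem_subgroupOf]

theorem wmk_eq_iff (n n' : P.N) : wmk P n = wmk P n' ↔ (n : G)⁻¹ * n' ∈ P.B := by
  rw [← inv_mul_eq_one, ← map_inv, ← map_mul, wmk_eq_one_iff]; simp

theorem wgen_genInv : GenInv (wgen P) where
  sq s := by
    rw [wgen, ← map_mul, wmk_eq_one_iff]
    exact P.sq_mem s s.2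
  gen w := by
    obtain ⟨n, rfl⟩ := wmk_surjective P w
    have hsq : ∀ s : P.S, (wgen P s)⁻¹ = wgen P s := fun s => by
      apply inv_eq_of_mul_eq_one_left
      rw [wgen, ← map_mul, wmk_eq_one_iff]
      exact P.sq_mem s s.2
    have hn : (n : G) ∈ Subgroup.closure P.S ⊔ (P.B ⊓ P.N) := by rw [P.closure_sup]; exact n.2
    have key : Subgroup.closure P.S ⊔ (P.B ⊓ P.N) ≤
        (((Subgroup.closure (Set.range (wgen P))).comap (wmk P)).map P.N.subtype) := by
      refine sup_le ((Subgroup.closure_le _).2 fun s hs => ?_) fun t ht => ?_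
      · exact ⟨sgen P ⟨s, hs⟩, Subgroup.subset_closure ⟨⟨s, hs⟩, rfl⟩, rfl⟩
      · refine ⟨⟨t, ht.2⟩, ?_, rfl⟩
        refine Subgroup.mem_comap.2 ?_
        rw [(wmk_eq_one_iff P ⟨t, ht.2⟩).2 ht.1]; exact one_mem _
    obtain ⟨n', hn', e⟩ := key hn
    have e' : n' = n := Subtype.ext e
    subst e'
    have hn2 : wmk P n' ∈ Subgroup.closure (Set.range (wgen P)) := hn'
    generalize wmk P n' = w at hn2
    clear hn' e hn
    induction hn2 using Subgroup.closure_induction with
    | mem x hx => obtain ⟨i, rfl⟩ := hx; exact ⟨[i], by simp⟩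
    | one => exact ⟨[], by simp⟩
    | mul x y _ _ hx hy =>
      obtain ⟨a, rfl⟩ := hx; obtain ⟨b, rfl⟩ := hy; exact ⟨a ++ b, by simp⟩
    | inv x _ hx =>
      obtain ⟨a, rfl⟩ := hx
      have : ∀ c : List P.S, wprod (wgen P) c.reverse = (wprod (wgen P) c)⁻¹ := fun c => by
        induction c with
        | nil => simp
        | cons i c ih => simp [ih, hsq]
      exact ⟨a.reverse, this a⟩

theorem wgen_inj : Function.Injective (wgen P) := fun s s' h =>
  Subtype.ext (P.inj s s.2 s' s'.2 ((wmk_eq_iff P _ _).1 h))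

theorem simple_not_mem_B {s : G} (hs : s ∈ P.S) : s ∉ P.B := by
  intro h
  apply P.conj_ne s hs
  ext x
  constructor
  · rintro ⟨b, hb, rfl⟩; exact mul_mem (mul_mem h hb) h
  · intro hx
    exact ⟨s⁻¹ * x * s⁻¹, mul_mem (mul_mem (inv_mem h) hx) (inv_mem h), by group⟩

theorem wgen_ne_one (s : P.S) : wgen P s ≠ 1 := fun h =>
  simple_not_mem_B P s.2 ((wmk_eq_one_iff P _).1 h)

/-- Bruhat cell -/
def cell (w : WeylGp P) : Set G :=
  {g | ∃ n : P.N, wmk P n = w ∧ ∃ b ∈ P.B, ∃ b' ∈ P.B, g = b * n * b'}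

theorem coe_mem_cell (n : P.N) : (n : G) ∈ cell P (wmk P n) :=
  ⟨n, rfl, 1, one_mem _, 1, one_mem _, by simp⟩

theorem left_mul_mem_cell {w : WeylGp P} {g b : G} (hb : b ∈ P.B) (hg : g ∈ cell P w) : b * g ∈ cell P w := by
  obtain ⟨n, hn, b₁, h₁, b₂, h₂, rfl⟩ := hg
  exact ⟨n, hn, b * b₁, mul_mem hb h₁, b₂, h₂, by group⟩

theorem right_mul_mem_cell {w : WeylGp P} {g b : G} (hb : b ∈ P.B) (hg : g ∈ cell P w) : g * b ∈ cell P w := by
  obtain ⟨n, hn, b₁, h₁, b₂, h₂, rfl⟩ := hg
  exact ⟨n, hn, b₁, h₁, b₂ * b, mul_mem h₂ hb, by group⟩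

theorem cell_rep {w : WeylGp P} {g : G} (hg : g ∈ cell P w) (m : P.N) (hm : wmk P m = w) :
    ∃ b ∈ P.B, ∃ b' ∈ P.B, g = b * m * b' := by
  obtain ⟨n, hn, b₁, h₁, b₂, h₂, rfl⟩ := hg
  refine ⟨b₁, h₁, (m : G)⁻¹ * n * b₂, mul_mem ((wmk_eq_iff P m n).1 (hm.trans hn.symm)) h₂, by group⟩

theorem inv_mem_cell {w : WeylGp P} {g : G} (hg : g ∈ cell P w) : g⁻¹ ∈ cell P w⁻¹ := by
  obtain ⟨n, hn, b₁, h₁, b₂, h₂, rfl⟩ := hg
  exact ⟨n⁻¹, by rw [map_inv, hn], b₂⁻¹, inv_mem h₂, b₁⁻¹, inv_mem h₁, by simp [mul_assoc]⟩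

theorem cell_nonempty (w : WeylGp P) : (cell P w).Nonempty := by
  obtain ⟨n, rfl⟩ := wmk_surjective P w
  exact ⟨n, coe_mem_cell P n⟩

theorem mem_cell_one {g : G} : g ∈ cell P 1 ↔ g ∈ P.B := by
  constructor
  · intro hg
    obtain ⟨b, hb, b', hb', rfl⟩ := cell_rep P hg 1 (map_one _)
    simpa using mul_mem hb hb'
  · intro hg
    exact ⟨1, map_one _, g, hg, 1, one_mem _, by simp⟩

theorem cell_subset_of_mem {M : Subgroup G} (hM : P.B ≤ M) {w : WeylGp P} {g : G}
    (hg : g ∈ cell P w) (hgM : g ∈ M) : ∀ h ∈ cell P w, h ∈ M := by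
  obtain ⟨n, hn, b₁, h₁, b₂, h₂, rfl⟩ := hg
  have hnM : (n : G) ∈ M := by
    have := mul_mem (mul_mem (inv_mem (hM h₁)) hgM) (inv_mem (hM h₂))
    simpa [mul_assoc] using this
  intro h hh
  obtain ⟨b, hb, b', hb', rfl⟩ := cell_rep P hh n hn
  exact mul_mem (mul_mem (hM hb) hnM) (hM hb')

theorem cell_eq_doubleCoset (n : P.N) :
    cell P (wmk P n) = DoubleCoset.doubleCoset (n : G) (P.B : Set G) P.B := by
  ext g
  rw [DoubleCoset.mem_doubleCoset]
  constructor
  · intro hg
    obtain ⟨b, hb, b', hb', rfl⟩ := cell_rep P hg n rfl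
    exact ⟨b, hb, b', hb', rfl⟩
  · rintro ⟨b, hb, b', hb', rfl⟩
    exact ⟨n, rfl, b, hb, b', hb', rfl⟩

theorem simple_mul_cell (s : P.S) {w : WeylGp P} {x y : G} (hx : x ∈ cell P (wgen P s)) (hy : y ∈ cell P w) :
    x * y ∈ cell P (wgen P s * w) ∪ cell P w := by
  obtain ⟨n, rfl⟩ := wmk_surjective P w
  obtain ⟨b, hb, b', hb', rfl⟩ := cell_rep P hx (sgen P s) rfl
  obtain ⟨c, hc, c', hc', rfl⟩ := cell_rep P hy n rfl
  have e : b * (sgen P s : G) * b' * (c * (n : G) * c') = b * ((s : G) * (b' * c) * n) * c' := by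
    simp [sgen]; group
  rw [e]
  rcases P.mul_mem_union s s.2 n n.2 (b' * c) (mul_mem hb' hc) with h | h
  · refine Or.inl (right_mul_mem_cell P hc' (left_mul_mem_cell P hb ?_))
    have : cell P (wgen P s * wmk P n) = DoubleCoset.doubleCoset ((s : G) * n) (P.B : Set G) P.B := by
      rw [wgen, ← map_mul, cell_eq_doubleCoset]; rfl
    rwa [this]
  · exact Or.inr (right_mul_mem_cell P hc' (left_mul_mem_cell P hb (by rwa [cell_eq_doubleCoset])))

theorem cell_mul_simple (s : P.S) {w : WeylGp P} {x y : G} (hy : y ∈ cell P w) (hx : x ∈ cell P (wgen P s)) :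
    y * x ∈ cell P (w * wgen P s) ∪ cell P w := by
  have hinv := (wgen_genInv P).inv s
  have h := simple_mul_cell P s (w := w⁻¹) (x := x⁻¹) (y := y⁻¹)
    (by rw [← hinv]; exact inv_mem_cell P hx) (inv_mem_cell P hy)
  rcases h with h | h
  · left; have := inv_mem_cell P h; simpa [hinv] using this
  · right; have := inv_mem_cell P h; simpa using this

theorem cell_split_right {w v : WeylGp P} {g : G} (hg : g ∈ cell P (w * v)) :
    ∃ x ∈ cell P w, ∃ y ∈ cell P v, g = x * y := by
  obtain ⟨m, rfl⟩ := wmk_surjective P w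
  obtain ⟨n, rfl⟩ := wmk_surjective P v
  obtain ⟨b, hb, b', hb', rfl⟩ := cell_rep P hg (m * n) (map_mul _ _ _)
  exact ⟨b * m, left_mul_mem_cell P hb (coe_mem_cell P m), n * b',
    right_mul_mem_cell P hb' (coe_mem_cell P n), by simp [mul_assoc]⟩

theorem wlen_le_of_not_disjoint : ∀ (k : ℕ) (w v : WeylGp P) (g : G),
    wlen (wgen P) w = k → k ≤ wlen (wgen P) v → g ∈ cell P w → g ∈ cell P v → w = v := by
  intro k
  induction k with
  | zero =>
    intro w v g hw _ hgw hgv
    obtain rfl := (wgen_genInv P).wlen_eq_zero hw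
    obtain ⟨n, rfl⟩ := wmk_surjective P v
    obtain ⟨b, hb, b', hb', rfl⟩ := cell_rep P hgv n rfl
    rw [eq_comm, wmk_eq_one_iff]
    have := mul_mem (mul_mem (inv_mem hb) ((mem_cell_one P).1 hgw)) (inv_mem hb')
    simpa [mul_assoc] using this
  | succ k ih =>
    intro w v g hw hv hgw hgv
    obtain ⟨l, hl, hll⟩ := (wgen_genInv P).exists_reduced w
    rw [hw] at hll
    match l with
    | [] => simp at hll
    | s :: l =>
      have hred : WReduced (wgen P) l := (wgen_genInv P).reduced_of_cons (i := s)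
        (by unfold WReduced; rw [hl, hw, hll])
      have hk : wlen (wgen P) (wprod (wgen P) l) = k := by
        unfold WReduced at hred; simp only [List.length_cons] at hll; omega
      rw [← hl, wprod_cons] at hgw
      obtain ⟨x, hx, y, hy, rfl⟩ := cell_split_right P hgw
      have hxi : x⁻¹ ∈ cell P (wgen P s) := by
        rw [← (wgen_genInv P).inv s]; exact inv_mem_cell P hx
      have h := simple_mul_cell P s hxi hgv
      rw [inv_mul_cancel_left] at h
      rcases h with h | h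
      · have h2 := (wgen_genInv P).wlen_le_simple_mul s v
        have e := ih _ _ y hk (by omega) hy h
        rw [← hl, wprod_cons, e, (wgen_genInv P).cancel]
      · have e := ih _ _ y hk (by omega) hy h
        rw [← e, hk] at hv; omega

theorem cell_inj {w v : WeylGp P} {g : G} (h₁ : g ∈ cell P w) (h₂ : g ∈ cell P v) : w = v := by
  rcases le_total (wlen (wgen P) w) (wlen (wgen P) v) with h | h
  · exact wlen_le_of_not_disjoint P _ w v g rfl h h₁ h₂
  · exact (wlen_le_of_not_disjoint P _ v w g rfl h h₂ h₁).symm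

/-- there is a product of two elements of `BsB` lying in `BsB` -/
theorem exists_simple_mul_simple (s : P.S) :
    ∃ a ∈ cell P (wgen P s), ∃ b ∈ cell P (wgen P s), a * b ∈ cell P (wgen P s) := by
  by_contra hne
  simp only [not_exists, not_and] at hne
  have hsn : ∀ b ∈ P.B, (s : G) * b * s ∈ P.B := by
    intro b hb
    have h := simple_mul_cell P s (x := (s : G) * b) (y := (s : G))
      (right_mul_mem_cell P hb (coe_mem_cell P (sgen P s))) (coe_mem_cell P (sgen P s))
    rcases h with h | h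
    · change (s : G) * b * s ∈ cell P (wgen P s * wgen P s) at h
      rw [(wgen_genInv P).sq] at h
      exact (mem_cell_one P).1 h
    · exact absurd h (hne _ (right_mul_mem_cell P hb (coe_mem_cell P (sgen P s))) _ (coe_mem_cell P (sgen P s)))
  apply P.conj_ne s s.2
  ext x
  refine ⟨by rintro ⟨b, hb, rfl⟩; exact hsn b hb, fun hx => ⟨(s : G)⁻¹ * x * (s : G)⁻¹, ?_, by group⟩⟩
  have h2 := P.sq_mem s s.2
  have := mul_mem (mul_mem (inv_mem h2) (hsn x hx)) (inv_mem h2)
  simpa [mul_assoc] using this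

theorem simple_mul_cell_of_le : ∀ (k : ℕ) (w : WeylGp P), wlen (wgen P) w = k → ∀ (s : P.S),
    wlen (wgen P) w ≤ wlen (wgen P) (wgen P s * w) →
    ∀ {x y : G}, x ∈ cell P (wgen P s) → y ∈ cell P w → x * y ∈ cell P (wgen P s * w) := by
  intro k
  induction k with
  | zero =>
    intro w hw s _ x y hx hy
    obtain rfl := (wgen_genInv P).wlen_eq_zero hw
    rw [mul_one]
    exact right_mul_mem_cell P ((mem_cell_one P).1 hy) hx
  | succ k ih =>
    intro w hw s hle x y hx hy
    obtain ⟨l, hl, hll⟩ := (wgen_genInv P).exists_reduced w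
    rw [hw] at hll
    obtain ⟨l', t, rfl⟩ : ∃ l' t, l = l' ++ [t] := by
      refine ⟨l.dropLast, l.getLast ?_, (List.dropLast_append_getLast _).symm⟩
      intro h; simp [h] at hll
    have hred : WReduced (wgen P) l' := (wgen_genInv P).reduced_of_concat (i := t)
      (by unfold WReduced; rw [hl, hw, hll])
    have hk : wlen (wgen P) (wprod (wgen P) l') = k := by
      unfold WReduced at hred; simp only [List.length_append, List.length_cons, List.length_nil] at hll; omega
    simp only [wprod_append, wprod_cons, wprod_nil, mul_one] at hl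
    have hle' : wlen (wgen P) (wprod (wgen P) l') ≤ wlen (wgen P) (wgen P s * wprod (wgen P) l') := by
      have h1 := (wgen_genInv P).wlen_mul_simple_le t (wgen P s * wprod (wgen P) l')
      rw [mul_assoc, hl] at h1
      omega
    subst hl
    obtain ⟨y', hy', z, hz, rfl⟩ := cell_split_right P hy
    have h1 := ih _ hk s hle' hx hy'
    have h2 := cell_mul_simple P t h1 hz
    rcases h2 with h2 | h2
    · rwa [mul_assoc x, mul_assoc (wgen P s)] at h2
    · rcases simple_mul_cell P s hx (show y' * z ∈ cell P (wprod (wgen P) l' * wgen P t) from hy) with h3 | h3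
      · exact h3
      · exfalso
        rw [← mul_assoc] at h3
        have e := cell_inj P h2 h3
        have e3 : wgen P s * (wprod (wgen P) l' * wgen P t) = wprod (wgen P) l' := by
          rw [← e, (wgen_genInv P).cancel]
        rw [e3, hk, hw] at hle
        omega

theorem simple_mul_cell_eq {w : WeylGp P} {s : P.S}
    (hle : wlen (wgen P) w ≤ wlen (wgen P) (wgen P s * w))
    {x y : G} (hx : x ∈ cell P (wgen P s)) (hy : y ∈ cell P w) : x * y ∈ cell P (wgen P s * w) :=
  simple_mul_cell_of_le P _ w rfl s hle hx hy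

theorem exists_mul_mem_cell_self {w : WeylGp P} {s : P.S}
    (hlt : wlen (wgen P) (wgen P s * w) ≤ wlen (wgen P) w) :
    ∃ x ∈ cell P (wgen P s), ∃ y ∈ cell P w, x * y ∈ cell P w := by
  obtain ⟨a, ha, b, hb, hab⟩ := exists_simple_mul_simple P s
  obtain ⟨z, hz⟩ := cell_nonempty P (wgen P s * w)
  have h : ∀ c ∈ cell P (wgen P s), c * z ∈ cell P w := fun c hc => by
    have := simple_mul_cell_eq P (w := wgen P s * w) (by rw [(wgen_genInv P).cancel]; exact hlt) hc hz
    rwa [(wgen_genInv P).cancel] at this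
  exact ⟨a, ha, b * z, h b hb, by rw [← mul_assoc]; exact h _ hab⟩

theorem wgen_exSys : ExSys (wgen P) where
  toGenInv := wgen_genInv P
  inj := wgen_inj P
  ne_one := wgen_ne_one P
  exch := by
    intro s l
    induction l using List.reverseRecOn with
    | nil =>
      intro _ hle
      rw [wprod_nil, mul_one, wlen_one] at hle
      exact absurd ((wgen_genInv P).wlen_eq_zero (Nat.le_zero.1 hle)) (wgen_ne_one P s)
    | append_singleton l t ih =>
      intro hr hle
      have hr' := (wgen_genInv P).reduced_of_concat hr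
      by_cases hc : wlen (wgen P) (wgen P s * wprod (wgen P) l) ≤ wlen (wgen P) (wprod (wgen P) l)
      · obtain ⟨l₁, x, l₂, rfl, hx⟩ := ih hr' hc
        exact ⟨l₁, x, l₂ ++ [t], by simp, hx⟩
      · have hle' : wlen (wgen P) (wprod (wgen P) l) ≤ wlen (wgen P) (wgen P s * wprod (wgen P) l) := by omega
        obtain ⟨x, hx, y, hy, hxy⟩ := exists_mul_mem_cell_self P hle
        rw [wprod_append, wprod_cons, wprod_nil, mul_one] at hy hxy
        obtain ⟨y', hy', z, hz, rfl⟩ := cell_split_right P hy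
        have h1 := simple_mul_cell_eq P hle' hx hy'
        have h2 := cell_mul_simple P t h1 hz
        rw [mul_assoc x] at h2
        rcases h2 with h2 | h2
        · have e := cell_inj P h2 hxy
          rw [mul_assoc, mul_eq_right] at e
          exact absurd e (wgen_ne_one P s)
        · exact ⟨l, t, [], rfl, cell_inj P h2 hxy⟩

/-- generators of a parabolic as indices -/
def idxSet (J : Set G) : Set P.S := {s | (s : G) ∈ J}

/-- parabolic subgroup of the Weyl group -/
def wPar (J : Set G) : Subgroup (WeylGp P) := Subgroup.closure (wgen P '' idxSet P J)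

theorem wgen_mem_wPar_iff {J : Set G} {s : P.S} : wgen P s ∈ wPar P J ↔ (s : G) ∈ J :=
  ⟨fun h => (wgen_exSys P).mem_of_simple_mem_closure h, fun h => Subgroup.subset_closure ⟨s, h, rfl⟩⟩

theorem exists_rep_closure {J : Set G} {w : WeylGp P} (hw : w ∈ wPar P J) :
    ∃ n : P.N, (n : G) ∈ Subgroup.closure J ∧ wmk P n = w := by
  have : wPar P J ≤ ((Subgroup.closure J).subgroupOf P.N).map (wmk P) := by
    refine (Subgroup.closure_le _).2 ?_
    rintro _ ⟨s, hs, rfl⟩
    exact ⟨sgen P s, Subgroup.subset_closure hs, rfl⟩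
  obtain ⟨n, hn, rfl⟩ := this hw
  exact ⟨n, hn, rfl⟩

theorem closure_le_N {J : Set G} (hJ : J ⊆ P.S) : Subgroup.closure J ≤ P.N :=
  (Subgroup.closure_le _).2 (hJ.trans P.subset)

theorem closure_sup_le_wPar {J : Set G} (hJ : J ⊆ P.S) :
    Subgroup.closure J ⊔ (P.B ⊓ P.N) ≤ ((wPar P J).comap (wmk P)).map P.N.subtype := by
  refine sup_le ((Subgroup.closure_le _).2 fun s hs => ?_) fun t ht => ?_
  · exact ⟨sgen P ⟨s, hJ hs⟩, Subgroup.subset_closure ⟨⟨s, hJ hs⟩, hs, rfl⟩, rfl⟩
  · refine ⟨⟨t, ht.2⟩, ?_, rfl⟩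
    refine Subgroup.mem_comap.2 ?_
    rw [(wmk_eq_one_iff P ⟨t, ht.2⟩).2 ht.1]; exact one_mem _

theorem wmk_mem_wPar {J : Set G} (hJ : J ⊆ P.S) (n : P.N) (hn : (n : G) ∈ Subgroup.closure J ⊔ (P.B ⊓ P.N)) :
    wmk P n ∈ wPar P J := by
  obtain ⟨m, hm, e⟩ := closure_sup_le_wPar P hJ hn
  have : m = n := Subtype.ext e
  subst this; exact hm

/-- union of the cells over a parabolic subgroup of the Weyl group -/
def cellUnion (J : Set G) : Subgroup G where
  carrier := {g | ∃ w ∈ wPar P J, g ∈ cell P w}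
  one_mem' := ⟨1, one_mem _, (mem_cell_one P).2 (one_mem _)⟩
  inv_mem' := by rintro g ⟨w, hw, hg⟩; exact ⟨w⁻¹, inv_mem hw, inv_mem_cell P hg⟩
  mul_mem' := by
    rintro g h ⟨w, hw, hg⟩ ⟨v, hv, hh⟩
    obtain ⟨l, hl, rfl, -⟩ := (wgen_exSys P).exists_reduced_of_mem_closure hw
    clear hw
    induction l generalizing g h v with
    | nil => exact ⟨v, hv, left_mul_mem_cell P ((mem_cell_one P).1 hg) hh⟩
    | cons s l ih =>
      rw [wprod_cons] at hg
      obtain ⟨x, hx, y, hy, rfl⟩ := cell_split_right P hg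
      obtain ⟨u, hu, hyh⟩ := ih v hv hh (fun z hz => hl z (List.mem_cons_of_mem _ hz)) hy
      rw [mul_assoc]
      rcases simple_mul_cell P s hx hyh with h1 | h1
      · exact ⟨_, mul_mem ((wgen_mem_wPar_iff P).2 (hl s (List.mem_cons_self ..))) hu, h1⟩
      · exact ⟨_, hu, h1⟩

theorem parabolic_eq_cellUnion {J : Set G} (hJ : J ⊆ P.S) : P.parabolic J = cellUnion P J := by
  refine le_antisymm (sup_le ?_ ((Subgroup.closure_le _).2 ?_)) ?_
  · exact fun b hb => ⟨1, one_mem _, (mem_cell_one P).2 hb⟩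
  · exact fun s hs => ⟨wgen P ⟨s, hJ hs⟩, (wgen_mem_wPar_iff P).2 hs, coe_mem_cell P (sgen P ⟨s, hJ hs⟩)⟩
  · rintro g ⟨w, hw, hg⟩
    obtain ⟨n, hn, rfl⟩ := exists_rep_closure P hw
    obtain ⟨b, hb, b', hb', rfl⟩ := cell_rep P hg n rfl
    exact mul_mem (mul_mem (Subgroup.mem_sup_left hb) (Subgroup.mem_sup_right hn)) (Subgroup.mem_sup_left hb')

theorem parabolic_self_eq_top : P.parabolic P.S = ⊤ := by
  rw [eq_top_iff, ← P.sup_eq_top]
  refine sup_le le_sup_left ?_
  conv_lhs => rw [← P.closure_sup]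
  exact sup_le le_sup_right (inf_le_left.trans le_sup_left)

theorem bruhat (g : G) : ∃ w, g ∈ cell P w := by
  have : g ∈ P.parabolic P.S := by rw [parabolic_self_eq_top]; trivial
  rw [parabolic_eq_cellUnion P subset_rfl] at this
  obtain ⟨w, _, hg⟩ := this
  exact ⟨w, hg⟩

theorem mem_parabolic_iff {J : Set G} (hJ : J ⊆ P.S) (g : G) :
    g ∈ P.parabolic J ↔ ∃ n ∈ Subgroup.closure J, g ∈ DoubleCoset.doubleCoset n (P.B : Set G) P.B := by
  rw [parabolic_eq_cellUnion P hJ]
  constructor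
  · rintro ⟨w, hw, hg⟩
    obtain ⟨n, hn, rfl⟩ := exists_rep_closure P hw
    exact ⟨n, hn, by rwa [← cell_eq_doubleCoset]⟩
  · rintro ⟨n, hn, hg⟩
    refine ⟨wmk P ⟨n, closure_le_N P hJ hn⟩, wmk_mem_wPar P hJ _ (Subgroup.mem_sup_left hn), ?_⟩
    rwa [cell_eq_doubleCoset]

theorem mem_parabolic_of_coe {J : Set G} (hJ : J ⊆ P.S) {s : P.S} :
    (s : G) ∈ P.parabolic J ↔ (s : G) ∈ J := by
  refine ⟨fun h => ?_, fun h => Subgroup.mem_sup_right (Subgroup.subset_closure h)⟩
  rw [parabolic_eq_cellUnion P hJ] at h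
  obtain ⟨w, hw, hg⟩ := h
  rw [← cell_inj P (coe_mem_cell P (sgen P s)) hg] at hw
  exact (wgen_mem_wPar_iff P).1 hw

theorem overgroup_eq_parabolic {M : Subgroup G} (hM : P.B ≤ M) :
    M = P.parabolic {s | s ∈ P.S ∧ s ∈ M} := by
  refine le_antisymm ?_ (sup_le hM ((Subgroup.closure_le _).2 fun s hs => hs.2))
  rw [parabolic_eq_cellUnion P (fun s hs => hs.1)]
  have key : ∀ (k : ℕ) (w : WeylGp P) (g : G), wlen (wgen P) w = k → g ∈ cell P w → g ∈ M →
      w ∈ wPar P {s | s ∈ P.S ∧ s ∈ M} := by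
    intro k
    induction k with
    | zero => intro w _ hw _ _; rw [(wgen_genInv P).wlen_eq_zero hw]; exact one_mem _
    | succ k ih =>
      intro w g hw hg hgM
      obtain ⟨l, hl, hll⟩ := (wgen_genInv P).exists_reduced w
      rw [hw] at hll
      match l with
      | [] => simp at hll
      | s :: l =>
        have hk : wlen (wgen P) (wprod (wgen P) l) ≤ k := by
          have := wlen_le (wgen P) l; simp only [List.length_cons] at hll; omega
        have e : wgen P s * w = wprod (wgen P) l := by rw [← hl, wprod_cons, (wgen_genInv P).cancel]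
        have hsM : (s : G) ∈ M := by
          obtain ⟨x, hx, y, hy, hxy⟩ := exists_mul_mem_cell_self P (w := w) (s := s) (by rw [e]; omega)
          have hxM : x ∈ M := by
            have := mul_mem (cell_subset_of_mem P hM hg hgM _ hxy) (inv_mem (cell_subset_of_mem P hM hg hgM _ hy))
            simpa using this
          exact cell_subset_of_mem P hM hx hxM _ (coe_mem_cell P (sgen P s))
        obtain ⟨n, rfl⟩ := wmk_surjective P w
        have hnM := cell_subset_of_mem P hM hg hgM _ (coe_mem_cell P n)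
        have hk' : wlen (wgen P) (wgen P s * wmk P n) = k := by
          have := (wgen_genInv P).wlen_le_simple_mul s (wmk P n); rw [e] at this ⊢; omega
        have := ih (wgen P s * wmk P n) ((sgen P s * n : P.N) : G) hk'
          (by rw [wgen, ← map_mul]; exact coe_mem_cell P _) (by simpa [sgen] using mul_mem hsM hnM)
        have := mul_mem ((wgen_mem_wPar_iff P (J := {s | s ∈ P.S ∧ s ∈ M}) (s := s)).2 ⟨s.2, hsM⟩) this
        rwa [(wgen_genInv P).cancel] at this
  intro g hg
  obtain ⟨w, hw⟩ := bruhat P g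
  exact ⟨w, key _ w g rfl hw hg, hw⟩

theorem mem_of_conj_le {M : Subgroup G} (hB : P.B ≤ M) : ∀ (k : ℕ) (n : P.N),
    wlen (wgen P) (wmk P n) = k → (∀ b ∈ P.B, (n : G) * b * (n : G)⁻¹ ∈ M) → (n : G) ∈ M := by
  intro k
  induction k with
  | zero => intro n hn _; exact hB ((wmk_eq_one_iff P n).1 ((wgen_genInv P).wlen_eq_zero hn))
  | succ k ih =>
    intro n hn hc
    obtain ⟨l, hl, hll⟩ := (wgen_genInv P).exists_reduced (wmk P n)
    rw [hn] at hll
    match l with
    | [] => simp at hll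
    | s :: l =>
      have e : wgen P s * wmk P n = wprod (wgen P) l := by rw [← hl, wprod_cons, (wgen_genInv P).cancel]
      have hk : wlen (wgen P) (wgen P s * wmk P n) = k := by
        have h1 := (wgen_genInv P).wlen_le_simple_mul s (wmk P n)
        have h2 := wlen_le (wgen P) l
        rw [e] at h1 ⊢; simp only [List.length_cons] at hll; omega
      obtain ⟨x, hx, y, hy, hxy⟩ := exists_mul_mem_cell_self P (w := wmk P n) (s := s) (by omega)
      obtain ⟨b₁, h₁, b₂, h₂, exy⟩ := cell_rep P hxy n rfl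
      obtain ⟨b₃, h₃, b₄, h₄, ey⟩ := cell_rep P hy n rfl
      have hxM : x ∈ M := by
        have : x = b₁ * ((n : G) * (b₂ * b₄⁻¹) * (n : G)⁻¹) * b₃⁻¹ := by
          rw [show x = x * y * y⁻¹ by group, exy, ey]; group
        rw [this]
        exact mul_mem (mul_mem (hB h₁) (hc _ (mul_mem h₂ (inv_mem h₄)))) (inv_mem (hB h₃))
      have hsM := cell_subset_of_mem P hB hx hxM _ (coe_mem_cell P (sgen P s))
      have := ih (sgen P s * n) (by rw [map_mul]; exact hk) (fun b hb => by
        have h' := mul_mem (mul_mem hsM (hc b hb)) (inv_mem hsM)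
        simpa [sgen, mul_assoc] using h')
      have h' := mul_mem (inv_mem hsM) this
      simpa [sgen] using h'

theorem mem_parabolic_of_conj_mem {J : Set G} {g : G}
    (h : ∀ b ∈ P.B, g * b * g⁻¹ ∈ P.parabolic J) : g ∈ P.parabolic J := by
  obtain ⟨w, hw⟩ := bruhat P g
  obtain ⟨n, rfl⟩ := wmk_surjective P w
  obtain ⟨b, hb, b', hb', rfl⟩ := cell_rep P hw n rfl
  have hB : P.B ≤ P.parabolic J := le_sup_left
  refine mul_mem (mul_mem (hB hb) (mem_of_conj_le P hB _ n rfl fun c hc => ?_)) (hB hb')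
  have := h (b'⁻¹ * c * b') (mul_mem (mul_mem (inv_mem hb') hc) hb')
  have h2 := mul_mem (mul_mem (inv_mem (hB hb)) this) (hB hb)
  have e : b⁻¹ * (b * (n : G) * b' * (b'⁻¹ * c * b') * (b * (n : G) * b')⁻¹) * b = (n : G) * c * (n : G)⁻¹ := by group
  rwa [e] at h2

/-- Tits' criterion: the generators inside `H ⊔ B` commute in `W` with those outside -/
theorem comm_of_normal (H : Subgroup G) [H.Normal] {s s' : P.S}
    (hs : (s : G) ∈ H ⊔ P.B) (hs' : (s' : G) ∉ H ⊔ P.B) :
    wgen P s' * wgen P s = wgen P s * wgen P s' := by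
  obtain ⟨J, hJ, hJdef⟩ : ∃ J, H ⊔ P.B = P.parabolic J ∧ J = {x | x ∈ P.S ∧ x ∈ H ⊔ P.B} :=
    ⟨_, overgroup_eq_parabolic P le_sup_right, rfl⟩
  have hJS : J ⊆ P.S := hJdef ▸ fun x hx => hx.1
  obtain ⟨h, hh, b, hb, e⟩ := Subgroup.mem_sup_of_normal_left.1 hs
  have hcell : h ∈ cell P (wgen P s) := by
    have : h = (s : G) * b⁻¹ := by rw [← e]; group
    rw [this]; exact right_mul_mem_cell P (inv_mem hb) (coe_mem_cell P (sgen P s))
  have hne : s ≠ s' := fun he => hs' (he ▸ hs)
  have h2 : wlen (wgen P) (wgen P s) < wlen (wgen P) (wgen P s' * wgen P s) := by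
    by_contra hc
    obtain ⟨l₁, x, l₂, hl, hx⟩ := (wgen_exSys P).exch s' [s] ((wgen_exSys P).reduced_singleton s)
      (by simpa using le_of_not_gt hc)
    rcases l₁ with _ | ⟨a, l₁⟩
    · simp only [List.nil_append, List.cons.injEq] at hl
      rw [wprod_nil, mul_one, one_mul, ← hl.1] at hx
      exact hne (wgen_inj P hx).symm
    · simp at hl
  have h2' : wlen (wgen P) (wgen P s * wgen P s') = 2 := by
    have e1 := (wgen_genInv P).wlen_inv (wgen P s' * wgen P s)
    rw [mul_inv_rev, (wgen_genInv P).inv, (wgen_genInv P).inv] at e1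
    have := (wgen_genInv P).wlen_simple_mul_le s' (wgen P s)
    rw [(wgen_exSys P).wlen_simple] at this h2
    omega
  have h3 : wlen (wgen P) (wgen P s' * (wgen P s * wgen P s')) ≤ 2 := by
    by_contra hc
    have hy : h * (s' : G)⁻¹ ∈ cell P (wgen P s * wgen P s') := by
      refine simple_mul_cell_eq P (by rw [h2', (wgen_exSys P).wlen_simple]; omega) hcell ?_
      have := inv_mem_cell P (coe_mem_cell P (sgen P s'))
      rw [← (wgen_genInv P).inv s']; exact this
    have hz := simple_mul_cell_eq P (s := s') (by omega) (coe_mem_cell P (sgen P s')) hy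
    have hmem : (s' : G) * (h * (s' : G)⁻¹) ∈ P.parabolic J := by
      rw [← hJ, ← mul_assoc]
      exact Subgroup.mem_sup_left (Subgroup.Normal.conj_mem ‹_› h hh _)
    rw [parabolic_eq_cellUnion P hJS] at hmem
    obtain ⟨v, hv, hv'⟩ := hmem
    rw [show (sgen P s' : G) = (s' : G) from rfl] at hz
    obtain rfl := cell_inj P hv' hz
    have hr : WReduced (wgen P) [s', s, s'] := by
      have hle := wlen_le (wgen P) [s', s, s']
      unfold WReduced
      simp only [wprod_cons, wprod_nil, mul_one, List.length_cons, List.length_nil] at hle ⊢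
      omega
    have := (wgen_exSys P).support_subset hr (J := idxSet P J)
      (show wprod (wgen P) [s', s, s'] ∈ wPar P J by simpa using hv) s' (List.mem_cons_self ..)
    have h' : (s' : G) ∈ J := this
    rw [hJdef] at h'
    exact hs' h'.2
  obtain ⟨l₁, x, l₂, hl, hx⟩ := (wgen_exSys P).exch s' [s, s']
    (by simp [WReduced, h2']) (by simpa [h2'] using h3)
  rcases l₁ with _ | ⟨a, _ | ⟨a', l₁⟩⟩
  · simp only [List.nil_append, List.cons.injEq] at hl
    rw [wprod_nil, mul_one, one_mul, ← hl.1] at hx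
    exact absurd (wgen_inj P hx).symm hne
  · simp only [List.cons_append, List.nil_append, List.cons.injEq] at hl
    rw [wprod_cons, wprod_nil, mul_one, ← hl.1, ← hl.2.1] at hx
    exact hx
  · simp at hl

/-- Tits' simplicity theorem, for a normal subgroup -/
theorem normal_le_core_or_sup_eq_top (hirr : P.Irreducible) (H : Subgroup G) [H.Normal] :
    H ≤ P.B.normalCore ∨ H ⊔ P.B = ⊤ := by
  by_cases h1 : ∀ s ∈ P.S, s ∈ H ⊔ P.B
  · right
    rw [eq_top_iff, ← parabolic_self_eq_top P]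
    exact sup_le le_sup_right ((Subgroup.closure_le _).2 h1)
  · by_cases h2 : ∀ s ∈ P.S, s ∉ H ⊔ P.B
    · left
      rw [Subgroup.normal_le_normalCore]
      have e := overgroup_eq_parabolic P (M := H ⊔ P.B) le_sup_right
      have e' : {x | x ∈ P.S ∧ x ∈ H ⊔ P.B} = (∅ : Set G) :=
        Set.eq_empty_of_forall_notMem fun x hx => h2 x hx.1 hx.2
      rw [e'] at e
      unfold Cfsg.BNPair.parabolic at e
      rw [Subgroup.closure_empty, sup_bot_eq] at e
      exact e ▸ le_sup_left
    · exfalso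
      simp only [not_forall, not_not] at h1 h2
      obtain ⟨s', hs'S, hs'⟩ := h1
      obtain ⟨s, hsS, hs⟩ := h2
      obtain ⟨a, ha, b, hb, hab⟩ := hirr {x | x ∈ P.S ∧ x ∈ H ⊔ P.B} (fun x hx => hx.1) ⟨s, hsS, hs⟩
        ⟨s', hs'S, fun h => hs' h.2⟩
      apply hab
      have hc := comm_of_normal P H (s := ⟨a, ha.1⟩) (s' := ⟨b, hb.1⟩) ha.2 fun h => hb.2 ⟨hb.1, h⟩
      have := (wmk_eq_one_iff P (sgen P ⟨a, ha.1⟩ * sgen P ⟨b, hb.1⟩ * (sgen P ⟨a, ha.1⟩)⁻¹ * (sgen P ⟨b, hb.1⟩)⁻¹)).1 (by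
        rw [map_mul, map_mul, map_mul, map_inv, map_inv]
        show wgen P _ * wgen P _ * (wgen P _)⁻¹ * (wgen P _)⁻¹ = 1
        rw [← hc]; group)
      simpa [sgen] using this

end CfsgLib.Lie.BN
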