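/-
Groups generated by involutions acting on a set with a notion of positivity, as a Weyl group acts on its roots:
exchange condition, descents, faithfulness, longest element.
-/
import Cfsg.Agent.Lib.Lie.ExchangeGroup

set_option autoImplicit false

namespace CfsgLib.Lie.Exchange

variable {W ι Ω : Type*} [Group W] (f : ι → W) (act : W →* Equiv.Perm Ω) (pos : Ω → Prop) (p : ι → Ω)

/-- `f i` sends the positive element `p i` to a non-positive one and keeps the other positive elements positive. -/
structure RootPerm : Prop extends GenInv f where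
  pos_p : ∀ i, pos (p i)
  not_pos : ∀ i, ¬ pos (act (f i) (p i))
  pos_of_ne : ∀ i ω, pos ω → ω ≠ p i → pos (act (f i) ω)
  conj : ∀ w i j, act w (p i) = p j → w * f i * w⁻¹ = f j
  inj : Function.Injective f
  flip : ∀ w i, pos (act w (p i)) → ¬ pos (act w (act (f i) (p i)))

variable {f act pos p}

theorem RootPerm.exch_of_neg (h : RootPerm f act pos p) : ∀ (l : List ι) (s : ι),
    ¬ pos (act (wprod f l)⁻¹ (p s)) →
    ∃ l₁ x l₂, l = l₁ ++ x :: l₂ ∧ f s * wprod f l₁ = wprod f l₁ * f x := by
  intro l
  induction l using List.reverseRecOn with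
  | nil => intro s hs; simp at hs; exact absurd (h.pos_p s) hs
  | append_singleton l t ih =>
    intro s hs
    by_cases hl : pos (act (wprod f l)⁻¹ (p s))
    · simp only [wprod_append, wprod_cons, wprod_nil, mul_one, mul_inv_rev, h.inv, map_mul,
        Equiv.Perm.mul_apply] at hs
      have e : act (wprod f l)⁻¹ (p s) = p t := by
        by_contra hne
        exact hs (h.pos_of_ne t _ hl hne)
      have e' : act (wprod f l) (p t) = p s := by
        rw [← e, ← Equiv.Perm.mul_apply, ← map_mul, mul_inv_cancel, map_one, Equiv.Perm.one_apply]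
      refine ⟨l, t, [], rfl, ?_⟩
      rw [← h.conj _ t s e']; group
    · obtain ⟨l₁, x, l₂, rfl, hx⟩ := ih s hl
      exact ⟨l₁, x, l₂ ++ [t], by simp, hx⟩

theorem RootPerm.exSys (h : RootPerm f act pos p) : ExSys f where
  toGenInv := h.toGenInv
  inj := h.inj
  ne_one i hi := h.not_pos i (by rw [hi, map_one, Equiv.Perm.one_apply]; exact h.pos_p i)
  exch := by
    intro s l hr hle
    refine h.exch_of_neg l s fun hpos => ?_
    obtain ⟨a, ha, hal⟩ := h.exists_reduced (f s * wprod f l)
    obtain ⟨l₁, x, l₂, hl, hx⟩ := h.exch_of_neg a s (by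
      rw [ha, mul_inv_rev, h.inv, map_mul, Equiv.Perm.mul_apply]
      exact h.flip _ _ hpos)
    have e : f s * wprod f a = wprod f (l₁ ++ l₂) := by
      rw [hl, wprod_append, wprod_cons, ← mul_assoc, hx, wprod_append]
      simp only [mul_assoc, h.cancel]
    rw [ha, h.cancel] at e
    have h1 := wlen_le f (l₁ ++ l₂)
    rw [← e] at h1
    have h2 := congrArg List.length hl
    simp only [List.length_append, List.length_cons] at h1 h2
    omega

/-- left descents are the simple roots sent to non-positive ones by the inverse -/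
theorem RootPerm.wlen_simple_mul_lt_iff (h : RootPerm f act pos p) (w : W) (s : ι) :
    wlen f (f s * w) < wlen f w ↔ ¬ pos (act w⁻¹ (p s)) := by
  have key : ∀ v : W, ¬ pos (act v⁻¹ (p s)) → wlen f (f s * v) < wlen f v := by
    intro v hv
    obtain ⟨a, ha, hal⟩ := h.exists_reduced v
    obtain ⟨l₁, x, l₂, hl, hx⟩ := h.exch_of_neg a s (by rwa [ha])
    have e := h.exSys.exch_delete (l₂ := l₂) hx
    rw [← hl, ha] at e
    rw [e]
    have h1 := wlen_le f (l₁ ++ l₂)
    have h2 := congrArg List.length hl
    simp only [List.length_append, List.length_cons] at h1 h2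
    omega
  refine ⟨fun hlt hpos => ?_, key w⟩
  have := key (f s * w) (by
    rw [mul_inv_rev, h.inv, map_mul, Equiv.Perm.mul_apply]
    exact h.flip _ _ hpos)
  rw [h.cancel] at this
  omega

/-- right descents -/
theorem RootPerm.wlen_mul_simple_lt_iff (h : RootPerm f act pos p) (w : W) (s : ι) :
    wlen f (w * f s) < wlen f w ↔ ¬ pos (act w (p s)) := by
  have := h.wlen_simple_mul_lt_iff w⁻¹ s
  rwa [inv_inv, h.wlen_inv, ← h.wlen_inv (f s * w⁻¹), mul_inv_rev, inv_inv, h.inv] at this

theorem RootPerm.faithful (h : RootPerm f act pos p) : Function.Injective act := by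
  rw [injective_iff_map_eq_one]
  intro w hw
  obtain ⟨l, hl, hll⟩ := h.exists_reduced w
  match l with
  | [] => rw [← hl]; rfl
  | s :: l =>
    exfalso
    have h1 : wlen f (f s * w) < wlen f w := by
      rw [← hll, ← hl, wprod_cons, h.cancel]
      have := wlen_le f l; simp only [List.length_cons]; omega
    refine (h.wlen_simple_mul_lt_iff w s).1 h1 ?_
    rw [map_inv, hw, inv_one, Equiv.Perm.one_apply]
    exact h.pos_p s

theorem RootPerm.finite (h : RootPerm f act pos p) [Finite Ω] : Finite W := Finite.of_injective act h.faithful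

theorem ExSys.wlen_mul_simple_ne (h : ExSys f) (w : W) (s : ι) : wlen f (w * f s) ≠ wlen f w := by
  intro he
  obtain ⟨l, hl, hll⟩ := h.exists_reduced w⁻¹
  obtain ⟨l₁, x, l₂, hl', hx⟩ := h.exch s l (by unfold WReduced; rw [hl, hll]) (by
    rw [hl, ← h.wlen_inv (f s * w⁻¹), mul_inv_rev, inv_inv, h.inv, h.wlen_inv]; omega)
  have e := h.exch_delete (l₂ := l₂) hx
  rw [← hl', hl] at e
  have h1 := wlen_le f (l₁ ++ l₂)
  have h2 := congrArg List.length hl'
  rw [← e, ← h.wlen_inv (f s * w⁻¹), mul_inv_rev, inv_inv, h.inv, he] at h1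
  rw [h.wlen_inv] at hll
  simp only [List.length_append, List.length_cons] at h1 h2
  omega

theorem RootPerm.exists_longest (h : RootPerm f act pos p) [Finite Ω] :
    ∃ w, ∀ s, ¬ pos (act w (p s)) := by
  have := h.finite
  obtain ⟨w, hw⟩ := Finite.exists_max (wlen f)
  refine ⟨w, fun s hs => ?_⟩
  have h1 := hw (w * f s)
  have h2 := h.exSys.wlen_mul_simple_ne w s
  have h3 : ¬ wlen f (w * f s) < wlen f w := fun hlt => (h.wlen_mul_simple_lt_iff w s).1 hlt hs
  omega

end CfsgLib.Lie.Exchange
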