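/-
Hecke operators of a group with the exchange condition at a positive parameter: the dimension of the centre does not
depend on the parameter, so it equals the number of conjugacy classes.
-/
import Cfsg.Agent.Lib.Lie.RootPerm

set_option autoImplicit false

namespace CfsgLib.Lie.Hecke

open CfsgLib.Lie.Exchange
open scoped ComplexConjugate

variable {W ι : Type*} [Group W] (f : ι → W)

/-- left multiplication by a simple element -/
noncomputable def opL (t : ℝ) (s : ι) : (W → ℂ) →ₗ[ℂ] (W → ℂ) where
  toFun v w := if wlen f (f s * w) < wlen f w then v (f s * w) + ((t : ℂ) - 1) * v w else (t : ℂ) * v (f s * w)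
  map_add' a b := by funext w; simp only [Pi.add_apply]; split_ifs <;> ring
  map_smul' c a := by funext w; simp only [Pi.smul_apply, smul_eq_mul, RingHom.id_apply]; split_ifs <;> ring

/-- right multiplication by a simple element -/
noncomputable def opR (t : ℝ) (s : ι) : (W → ℂ) →ₗ[ℂ] (W → ℂ) where
  toFun v w := if wlen f (w * f s) < wlen f w then v (w * f s) + ((t : ℂ) - 1) * v w else (t : ℂ) * v (w * f s)
  map_add' a b := by funext w; simp only [Pi.add_apply]; split_ifs <;> ring
  map_smul' c a := by funext w; simp only [Pi.smul_apply, smul_eq_mul, RingHom.id_apply]; split_ifs <;> ring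

theorem opL_apply (t : ℝ) (s : ι) (v : W → ℂ) (w : W) : opL f t s v w =
    if wlen f (f s * w) < wlen f w then v (f s * w) + ((t : ℂ) - 1) * v w else (t : ℂ) * v (f s * w) := rfl

theorem opR_apply (t : ℝ) (s : ι) (v : W → ℂ) (w : W) : opR f t s v w =
    if wlen f (w * f s) < wlen f w then v (w * f s) + ((t : ℂ) - 1) * v w else (t : ℂ) * v (w * f s) := rfl

/-- products along a word, from the left -/
noncomputable def wordL (t : ℝ) : List ι → ((W → ℂ) →ₗ[ℂ] (W → ℂ))
  | [] => LinearMap.id
  | a :: l => (opL f t a).comp (wordL t l)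

/-- products along a word, from the right -/
noncomputable def wordR (t : ℝ) : List ι → ((W → ℂ) →ₗ[ℂ] (W → ℂ))
  | [] => LinearMap.id
  | a :: l => (wordR t l).comp (opR f t a)

variable {f} (h : ExSys f)
include h

theorem len_left (s : ι) (w : W) :
    wlen f (f s * w) = wlen f w + 1 ∨ wlen f (f s * w) + 1 = wlen f w := by
  have h1 := h.toGenInv.wlen_simple_mul_le s w
  have h2 := h.toGenInv.wlen_le_simple_mul s w
  have h3 : wlen f (f s * w) ≠ wlen f w := fun e => h.wlen_mul_simple_ne w⁻¹ s (by
    rw [← h.toGenInv.wlen_inv, mul_inv_rev, inv_inv, h.toGenInv.inv, e, h.toGenInv.wlen_inv])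
  omega

theorem len_right (s : ι) (w : W) :
    wlen f (w * f s) = wlen f w + 1 ∨ wlen f (w * f s) + 1 = wlen f w := by
  have := len_left h s w⁻¹
  rwa [← h.toGenInv.wlen_inv (f s * w⁻¹), mul_inv_rev, inv_inv, h.toGenInv.inv, h.toGenInv.wlen_inv] at this

theorem eq_of_len_up {s r : ι} {w : W} (h1 : wlen f (f s * w) = wlen f w + 1)
    (h2 : wlen f (w * f r) = wlen f w + 1) (h3 : wlen f (f s * w * f r) = wlen f w) : f s * w = w * f r := by
  obtain ⟨a, ha, hal⟩ := h.toGenInv.exists_reduced w
  have hred : WReduced f (a ++ [r]) := by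
    unfold WReduced
    rw [wprod_append, wprod_cons, wprod_nil, mul_one, ha, h2, List.length_append, List.length_cons,
      List.length_nil, hal]
  obtain ⟨l₁, x, l₂, hl, hx⟩ := h.exch s (a ++ [r]) hred (by
    rw [wprod_append, wprod_cons, wprod_nil, mul_one, ha, ← mul_assoc, h3, h2]; omega)
  have e : f s * w * f r = wprod f (l₁ ++ l₂) := by
    rw [← h.exch_delete hx, ← hl, wprod_append, wprod_cons, wprod_nil, mul_one, ha, mul_assoc]
  rcases List.eq_nil_or_concat' l₂ with rfl | ⟨l₃, y, rfl⟩
  · obtain ⟨rfl, hxr⟩ := List.append_inj' hl (by simp)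
    rw [List.append_nil, ha] at e
    calc f s * w = f s * w * f r * f r := (h.toGenInv.cancel_right r _).symm
      _ = w * f r := by rw [e]
  · exfalso
    rw [← List.cons_append, ← List.append_assoc] at hl
    obtain ⟨rfl, hyr⟩ := List.append_inj' hl (by simp)
    obtain rfl : r = y := by simpa using hyr
    rw [← List.append_assoc, wprod_append f (l₁ ++ l₃), wprod_cons, wprod_nil, mul_one] at e
    have e2 := mul_right_cancel e
    have hle := wlen_le f (l₁ ++ l₃)
    rw [← e2, h1] at hle
    simp only [List.length_append, List.length_cons] at hle hal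
    omega

theorem eq_of_len_down {s r : ι} {w : W} (h1 : wlen f (f s * w) + 1 = wlen f w)
    (h2 : wlen f (w * f r) + 1 = wlen f w) (h3 : wlen f (f s * w * f r) = wlen f w) : f s * w = w * f r := by
  have h4 := eq_of_len_up h (s := s) (r := r) (w := f s * w) (by rw [h.toGenInv.cancel]; omega)
    (by rw [h3]; omega) (by rw [h.toGenInv.cancel]; omega)
  rw [h.toGenInv.cancel] at h4
  conv_rhs => rw [h4]
  rw [h.toGenInv.cancel_right]

theorem opL_opR (t : ℝ) (s r : ι) (v : W → ℂ) :
    opL f t s (opR f t r v) = opR f t r (opL f t s v) := by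
  funext w
  simp only [opL_apply, opR_apply]
  rw [← mul_assoc (f s) w (f r)]
  have key : wlen f (f s * w * f r) = wlen f w →
      (wlen f (f s * w) = wlen f (w * f r)) → f s * w = w * f r ∧ f s * w * f r = w := by
    intro hd he
    have e : f s * w = w * f r := by
      rcases len_left h s w with h1 | h1
      · exact eq_of_len_up h h1 (he ▸ h1) hd
      · exact eq_of_len_down h h1 (he ▸ h1) hd
    exact ⟨e, by rw [e, h.toGenInv.cancel_right]⟩
  rcases len_left h s w with h1 | h1 <;> rcases len_right h r w with h2 | h2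
  · rcases len_right h r (f s * w) with h3 | h3
    · have h4 : wlen f (f s * w * f r) = wlen f w + 2 := by omega
      simp only [h1, h2, h4, show ¬ (wlen f w + 2 < wlen f w + 1) by omega, show ¬ (wlen f w + 1 < wlen f w) by omega,
        if_false]
    · obtain ⟨e, e'⟩ := key (by omega) (by omega)
      rw [e', e]
  · have h4 : wlen f (f s * w * f r) = wlen f w := by
      have := len_left h s (w * f r)
      have := len_right h r (f s * w)
      rw [← mul_assoc] at *
      omega
    simp only [h4, show wlen f (w * f r) < wlen f w by omega, show ¬ wlen f (f s * w) < wlen f w by omega,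
      show wlen f w < wlen f (f s * w) by omega, show ¬ wlen f w < wlen f (w * f r) by omega, if_true, if_false]
    ring
  · have h4 : wlen f (f s * w * f r) = wlen f w := by
      have := len_left h s (w * f r)
      have := len_right h r (f s * w)
      rw [← mul_assoc] at *
      omega
    simp only [h4, show ¬ wlen f (w * f r) < wlen f w by omega, show wlen f (f s * w) < wlen f w by omega,
      show ¬ wlen f w < wlen f (f s * w) by omega, show wlen f w < wlen f (w * f r) by omega, if_true, if_false]
    ring
  · rcases len_right h r (f s * w) with h3 | h3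
    · obtain ⟨e, e'⟩ := key (by omega) (by omega)
      rw [e', e]
    · have := len_left h s (w * f r)
      rw [← mul_assoc] at this
      simp only [show wlen f (w * f r) < wlen f w by omega, show wlen f (f s * w) < wlen f w by omega,
        show wlen f (f s * w * f r) < wlen f (f s * w) by omega,
        show wlen f (f s * w * f r) < wlen f (w * f r) by omega, if_true]
      ring

omit h in
/-- the basis vector -/
noncomputable def bas (w : W) : W → ℂ := open Classical in fun x => if x = w then 1 else 0

theorem opL_bas_up (t : ℝ) {s : ι} {w : W} (hw : wlen f (f s * w) = wlen f w + 1) :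
    opL f t s (bas w) = bas (f s * w) := by
  classical
  funext x
  simp only [opL_apply, bas]
  by_cases hx : x = f s * w
  · subst hx
    rw [if_pos rfl, h.toGenInv.cancel, if_pos (by omega), if_pos rfl]
    by_cases e : f s * w = w
    · rw [e] at hw; omega
    · rw [if_neg e]; ring
  · rw [if_neg hx]
    by_cases e : f s * x = w
    · exact absurd (by rw [← e, h.toGenInv.cancel]) hx
    · by_cases e2 : x = w
      · subst e2
        rw [if_neg (show ¬ wlen f (f s * x) < wlen f x by omega), if_neg e, mul_zero]
      · simp [e, e2]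

theorem opR_bas_up (t : ℝ) {s : ι} {w : W} (hw : wlen f (w * f s) = wlen f w + 1) :
    opR f t s (bas w) = bas (w * f s) := by
  classical
  funext x
  simp only [opR_apply, bas]
  by_cases hx : x = w * f s
  · subst hx
    rw [if_pos rfl, h.toGenInv.cancel_right, if_pos (by omega), if_pos rfl]
    by_cases e : w * f s = w
    · rw [e] at hw; omega
    · rw [if_neg e]; ring
  · rw [if_neg hx]
    by_cases e : x * f s = w
    · exact absurd (by rw [← e, h.toGenInv.cancel_right]) hx
    · by_cases e2 : x = w
      · subst e2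
        rw [if_neg (show ¬ wlen f (x * f s) < wlen f x by omega), if_neg e, mul_zero]
      · simp [e, e2]

theorem opL_bas_down (t : ℝ) {s : ι} {w : W} (hw : wlen f (f s * w) + 1 = wlen f w) :
    opL f t s (bas w) = ((t : ℂ) - 1) • bas w + (t : ℂ) • bas (f s * w) := by
  classical
  funext x
  simp only [opL_apply, bas, Pi.add_apply, Pi.smul_apply, smul_eq_mul]
  by_cases e2 : x = w
  · subst e2
    rw [if_pos (show wlen f (f s * x) < wlen f x by omega)]
    have hne : f s * x ≠ x := fun e => by rw [e] at hw; omega
    simp [hne, Ne.symm hne]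
  · by_cases hx : x = f s * w
    · subst hx
      rw [h.toGenInv.cancel, if_neg (show ¬ wlen f w < wlen f (f s * w) by omega)]
      simp [e2]
    · have e : f s * x ≠ w := fun e => hx (by rw [← e, h.toGenInv.cancel])
      simp [e, e2, hx]

theorem opR_bas_down (t : ℝ) {s : ι} {w : W} (hw : wlen f (w * f s) + 1 = wlen f w) :
    opR f t s (bas w) = ((t : ℂ) - 1) • bas w + (t : ℂ) • bas (w * f s) := by
  classical
  funext x
  simp only [opR_apply, bas, Pi.add_apply, Pi.smul_apply, smul_eq_mul]
  by_cases e2 : x = w
  · subst e2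
    rw [if_pos (show wlen f (x * f s) < wlen f x by omega)]
    have hne : x * f s ≠ x := fun e => by rw [e] at hw; omega
    simp [hne, Ne.symm hne]
  · by_cases hx : x = w * f s
    · subst hx
      rw [h.toGenInv.cancel_right, if_neg (show ¬ wlen f w < wlen f (w * f s) by omega)]
      simp [e2]
    · have e : x * f s ≠ w := fun e => hx (by rw [← e, h.toGenInv.cancel_right])
      simp [e, e2, hx]

theorem wordL_opR (t : ℝ) (r : ι) : ∀ (l : List ι) (v : W → ℂ),
    wordL f t l (opR f t r v) = opR f t r (wordL f t l v)
  | [], _ => rfl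
  | a :: l, v => by
    simp only [wordL, LinearMap.comp_apply]
    rw [wordL_opR t r l v, opL_opR h]

theorem opL_wordR (t : ℝ) (s : ι) : ∀ (l : List ι) (v : W → ℂ),
    opL f t s (wordR f t l v) = wordR f t l (opL f t s v)
  | [], _ => rfl
  | a :: l, v => by
    simp only [wordR, LinearMap.comp_apply]
    rw [opL_wordR t s l, opL_opR h]

theorem wordR_one (t : ℝ) : ∀ (l : List ι) (u : W),
    (∀ j ≤ l.length, wlen f (u * wprod f (l.take j)) = wlen f u + j) → wordR f t l (bas u) = bas (u * wprod f l)
  | [], u, _ => by simp [wordR]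
  | a :: l, u, hl => by
    have h1 : wlen f (u * f a) = wlen f u + 1 := by simpa using hl 1 (by simp)
    simp only [wordR, LinearMap.comp_apply]
    rw [opR_bas_up h t h1, wordR_one t l (u * f a) (fun j hj => by
      have := hl (j + 1) (by simpa using hj)
      simp only [List.take_succ_cons, wprod_cons, ← mul_assoc] at this
      omega), wprod_cons, mul_assoc]

theorem reduced_take {l : List ι} (hl : WReduced f l) (j : ℕ) : WReduced f (l.take j) := by
  induction l using List.reverseRecOn with
  | nil => simpa using hl
  | append_singleton l a ih =>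
    by_cases hj : j ≤ l.length
    · rw [List.take_append_of_le_length hj]
      exact ih (h.toGenInv.reduced_of_concat hl)
    · rw [List.take_of_length_le (by simp; omega)]
      exact hl

/-- an operator commuting with the right operators is determined by its value at the identity -/
theorem ext_of_comm {t : ℝ} {A B : (W → ℂ) →ₗ[ℂ] (W → ℂ)}
    (hA : ∀ r v, A (opR f t r v) = opR f t r (A v)) (hB : ∀ r v, B (opR f t r v) = opR f t r (B v))
    [Fintype W] (h1 : A (bas 1) = B (bas 1)) (v : W → ℂ) : A v = B v := by
  classical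
  have hw : ∀ w, A (bas w) = B (bas w) := fun w => by
    obtain ⟨l, hl, hll⟩ := h.toGenInv.exists_reduced w
    have key : ∀ (m : List ι) (x : W → ℂ), A x = B x → A (wordR f t m x) = B (wordR f t m x) := by
      intro m
      induction m with
      | nil => exact fun x hx => hx
      | cons a m ih =>
        intro x hx
        simp only [wordR, LinearMap.comp_apply]
        exact ih _ (by rw [hA, hB, hx])
    have e := wordR_one h t l 1 (fun j hj => by
      have hr : WReduced f l := by unfold WReduced; rw [hl, hll]
      have h3 : wlen f (wprod f (l.take j)) = (l.take j).length := reduced_take h hr j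
      rw [one_mul, h3, wlen_one, List.length_take, Nat.min_eq_left hj, zero_add])
    rw [one_mul, hl] at e
    rw [← e]
    exact key l _ h1
  have e : v = ∑ w, v w • bas w := by
    funext x
    rw [Finset.sum_apply]
    simp [bas]
  rw [e, map_sum, map_sum]
  simp only [map_smul, hw]

variable (f) in
omit h in
/-- a chosen shortest word -/
noncomputable def word (w : W) : List ι := open Classical in
  if hw : ∃ l, wprod f l = w ∧ l.length = wlen f w then hw.choose else []

theorem word_spec (w : W) : wprod f (word f w) = w ∧ (word f w).length = wlen f w := by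
  have hw := h.toGenInv.exists_reduced w
  simp only [word, dif_pos hw]
  exact hw.choose_spec

omit h in
variable (f) in
/-- left multiplication by an element -/
noncomputable def LW (t : ℝ) (w : W) : (W → ℂ) →ₗ[ℂ] (W → ℂ) := wordL f t (word f w)

omit h in
variable (f) in
/-- right multiplication by an element -/
noncomputable def RW (t : ℝ) (w : W) : (W → ℂ) →ₗ[ℂ] (W → ℂ) := wordR f t (word f w)

theorem wordL_one (t : ℝ) : ∀ l : List ι, WReduced f l → wordL f t l (bas 1) = bas (wprod f l)
  | [], _ => rfl
  | a :: l, hl => by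
    simp only [wordL, LinearMap.comp_apply]
    rw [wordL_one t l (h.toGenInv.reduced_of_cons hl), opL_bas_up h t, wprod_cons]
    have h2 : wlen f (wprod f l) = l.length := h.toGenInv.reduced_of_cons hl
    have h3 : wlen f (wprod f (a :: l)) = (a :: l).length := hl
    rw [wprod_cons, List.length_cons] at h3
    omega

theorem LW_bas_one (t : ℝ) (w : W) : LW f t w (bas 1) = bas w := by
  obtain ⟨h1, h2⟩ := word_spec h w
  rw [LW, wordL_one h t _ (show wlen f (wprod f (word f w)) = _ by rw [h1, h2]), h1]

theorem RW_bas_one (t : ℝ) (w : W) : RW f t w (bas 1) = bas w := by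
  obtain ⟨h1, h2⟩ := word_spec h w
  have hr : WReduced f (word f w) := by unfold WReduced; rw [h1, h2]
  rw [RW, wordR_one h t _ 1, one_mul, h1]
  intro j hj
  have h3 : wlen f (wprod f ((word f w).take j)) = ((word f w).take j).length := reduced_take h hr j
  rw [one_mul, h3, wlen_one, List.length_take, Nat.min_eq_left hj, zero_add]

theorem wordR_wordL (t : ℝ) : ∀ (m l : List ι) (v : W → ℂ),
    wordR f t m (wordL f t l v) = wordL f t l (wordR f t m v)
  | [], _, _ => rfl
  | a :: m, l, v => by
    simp only [wordR, LinearMap.comp_apply]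
    rw [← wordL_opR h t a l v, wordR_wordL t m l]

/-- an operator commuting with the left operators is determined by its value at the identity -/
theorem ext_of_commL {t : ℝ} {A B : (W → ℂ) →ₗ[ℂ] (W → ℂ)}
    (hA : ∀ r v, A (opL f t r v) = opL f t r (A v)) (hB : ∀ r v, B (opL f t r v) = opL f t r (B v))
    [Fintype W] (h1 : A (bas 1) = B (bas 1)) (v : W → ℂ) : A v = B v := by
  classical
  have hw : ∀ w, A (bas w) = B (bas w) := fun w => by
    have key : ∀ (m : List ι) (x : W → ℂ), A x = B x → A (wordL f t m x) = B (wordL f t m x) := by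
      intro m
      induction m with
      | nil => exact fun x hx => hx
      | cons a m ih =>
        intro x hx
        simp only [wordL, LinearMap.comp_apply]
        rw [hA, hB, ih x hx]
    rw [← LW_bas_one h t w]
    exact key _ _ h1
  have e : v = ∑ w, v w • bas w := by
    funext x
    rw [Finset.sum_apply]
    simp [bas]
  rw [e, map_sum, map_sum]
  simp only [map_smul, hw]

section Mul

variable [Fintype W]

theorem opL_LW_up (t : ℝ) {s : ι} {w : W} (hw : wlen f (f s * w) = wlen f w + 1) (v : W → ℂ) :
    opL f t s (LW f t w v) = LW f t (f s * w) v :=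
  ext_of_comm h (t := t) (A := (opL f t s).comp (LW f t w)) (B := LW f t (f s * w))
    (fun r x => by simp only [LinearMap.comp_apply, LW, wordL_opR h t r, opL_opR h])
    (fun r x => wordL_opR h t r _ x)
    (by rw [LinearMap.comp_apply, LW_bas_one h, LW_bas_one h, opL_bas_up h t hw]) v

theorem opL_LW_down (t : ℝ) {s : ι} {w : W} (hw : wlen f (f s * w) + 1 = wlen f w) (v : W → ℂ) :
    opL f t s (LW f t w v) = ((t : ℂ) - 1) • LW f t w v + (t : ℂ) • LW f t (f s * w) v :=
  ext_of_comm h (t := t) (A := (opL f t s).comp (LW f t w))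
    (B := ((t : ℂ) - 1) • LW f t w + (t : ℂ) • LW f t (f s * w))
    (fun r x => by simp only [LinearMap.comp_apply, LW, wordL_opR h t r, opL_opR h])
    (fun r x => by simp only [LinearMap.add_apply, LinearMap.smul_apply, LW, wordL_opR h t r, map_add, map_smul])
    (by rw [LinearMap.comp_apply, LW_bas_one h, LinearMap.add_apply, LinearMap.smul_apply, LinearMap.smul_apply,
      LW_bas_one h, LW_bas_one h, opL_bas_down h t hw]) v

theorem opR_RW_up (t : ℝ) {s : ι} {w : W} (hw : wlen f (w * f s) = wlen f w + 1) (v : W → ℂ) :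
    opR f t s (RW f t w v) = RW f t (w * f s) v :=
  ext_of_commL h (t := t) (A := (opR f t s).comp (RW f t w)) (B := RW f t (w * f s))
    (fun r x => by simp only [LinearMap.comp_apply, RW, ← opL_wordR h t r, opL_opR h])
    (fun r x => (opL_wordR h t r _ x).symm)
    (by rw [LinearMap.comp_apply, RW_bas_one h, RW_bas_one h, opR_bas_up h t hw]) v

theorem opR_RW_down (t : ℝ) {s : ι} {w : W} (hw : wlen f (w * f s) + 1 = wlen f w) (v : W → ℂ) :
    opR f t s (RW f t w v) = ((t : ℂ) - 1) • RW f t w v + (t : ℂ) • RW f t (w * f s) v :=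
  ext_of_commL h (t := t) (A := (opR f t s).comp (RW f t w))
    (B := ((t : ℂ) - 1) • RW f t w + (t : ℂ) • RW f t (w * f s))
    (fun r x => by simp only [LinearMap.comp_apply, RW, ← opL_wordR h t r, opL_opR h])
    (fun r x => by simp only [LinearMap.add_apply, LinearMap.smul_apply, RW, ← opL_wordR h t r, map_add, map_smul])
    (by rw [LinearMap.comp_apply, RW_bas_one h, LinearMap.add_apply, LinearMap.smul_apply, LinearMap.smul_apply,
      RW_bas_one h, RW_bas_one h, opR_bas_down h t hw]) v

end Mul

section Centre

variable [Fintype W]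

omit h in
variable (f) in
/-- the averaging operator onto the centre -/
noncomputable def casimir (t : ℝ) : (W → ℂ) →ₗ[ℂ] (W → ℂ) :=
  ∑ w : W, ((t : ℂ)⁻¹) ^ wlen f w • (LW f t w).comp (RW f t w⁻¹)

omit h in
variable (f) in
/-- commutation with the simple elements -/
noncomputable def commMap (t : ℝ) : (W → ℂ) →ₗ[ℂ] (ι → W → ℂ) :=
  LinearMap.pi fun s => opL f t s - opR f t s

theorem opL_casimir {t : ℝ} (ht : 0 < t) (s : ι) (v : W → ℂ) :
    opL f t s (casimir f t v) = opR f t s (casimir f t v) := by
  have ht' : (t : ℂ) ≠ 0 := Complex.ofReal_ne_zero.2 ht.ne'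
  let P : W → W → W → ℂ := fun a b => LW f t a (RW f t b⁻¹ v)
  let g : W → W → ℂ := fun w =>
    if wlen f (f s * w) < wlen f w then ((t : ℂ)⁻¹) ^ wlen f (f s * w) • (P (f s * w) w - P w (f s * w))
    else ((t : ℂ)⁻¹) ^ wlen f w • (P (f s * w) w - P w (f s * w))
  have hterm : ∀ w : W, opL f t s (((t : ℂ)⁻¹) ^ wlen f w • LW f t w (RW f t w⁻¹ v)) -
      opR f t s (((t : ℂ)⁻¹) ^ wlen f w • LW f t w (RW f t w⁻¹ v)) = g w := by
    intro w
    have hR : ∀ x, opR f t s (LW f t w x) = LW f t w (opR f t s x) := fun x => (wordL_opR h t s _ x).symm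
    have hinv : w⁻¹ * f s = (f s * w)⁻¹ := by rw [mul_inv_rev, h.toGenInv.inv]
    simp only [map_smul, hR, ← smul_sub, g]
    rcases len_left h s w with h1 | h1
    · have h2 : wlen f (w⁻¹ * f s) = wlen f w⁻¹ + 1 := by
        rw [hinv, h.toGenInv.wlen_inv, h.toGenInv.wlen_inv, h1]
      rw [opL_LW_up h t h1, opR_RW_up h t h2, if_neg (by omega), hinv]
    · have h2 : wlen f (w⁻¹ * f s) + 1 = wlen f w⁻¹ := by
        rw [hinv, h.toGenInv.wlen_inv, h.toGenInv.wlen_inv, h1]
      rw [opL_LW_down h t h1, opR_RW_down h t h2, if_pos (by omega), hinv, map_add, map_smul, map_smul,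
        add_sub_add_left_eq_sub, ← smul_sub, smul_smul, ← h1, pow_succ, mul_assoc, inv_mul_cancel₀ ht', mul_one]
  have hg : ∀ w, g (f s * w) = - g w := by
    intro w
    simp only [g, h.toGenInv.cancel]
    rcases len_left h s w with h1 | h1
    · rw [if_pos (by omega), if_neg (show ¬ wlen f (f s * w) < wlen f w by omega), ← smul_neg, neg_sub]
    · rw [if_neg (show ¬ wlen f w < wlen f (f s * w) by omega), if_pos (by omega), ← smul_neg, neg_sub]
  have hsum : ∑ w, g w = 0 := by
    have h1 : ∑ w, g w = - ∑ w, g w := by
      rw [← Finset.sum_neg_distrib]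
      refine Fintype.sum_equiv (Equiv.mulLeft (f s)) _ _ fun w => ?_
      rw [Equiv.coe_mulLeft, hg, neg_neg]
    have h2 : (2 : ℂ) • ∑ w, g w = 0 := by rw [two_smul]; nth_rewrite 1 [h1]; exact neg_add_cancel _
    exact (smul_eq_zero.1 h2).resolve_left two_ne_zero
  rw [← sub_eq_zero]
  simp only [casimir, LinearMap.sum_apply, LinearMap.smul_apply, LinearMap.comp_apply, map_sum]
  rw [← Finset.sum_sub_distrib, ← hsum]
  exact Finset.sum_congr rfl fun w _ => hterm w

omit h in
variable (f) in
/-- the invariant inner product -/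
noncomputable def form (t : ℝ) (x y : W → ℂ) : ℂ := ∑ w, (t : ℂ) ^ wlen f w * (conj (x w) * y w)

theorem form_opL (t : ℝ) (s : ι) (x y : W → ℂ) :
    form f t x (opL f t s y) = form f t (opL f t s x) y := by
  simp only [form, opL_apply]
  let A : W → ℂ := fun w => if wlen f (f s * w) < wlen f w then
    (t : ℂ) ^ wlen f w * (((t : ℂ) - 1) * (conj (x w) * y w)) else 0
  let M : W → ℂ := fun w => if wlen f (f s * w) < wlen f w then (t : ℂ) ^ wlen f w else (t : ℂ) ^ (wlen f w + 1)
  have hl : ∀ w, (t : ℂ) ^ wlen f w * (conj (x w) * (if wlen f (f s * w) < wlen f w then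
      y (f s * w) + ((t : ℂ) - 1) * y w else (t : ℂ) * y (f s * w))) =
      A w + M w * (conj (x w) * y (f s * w)) := fun w => by
    simp only [A, M]; split_ifs <;> ring
  have hr : ∀ w, (t : ℂ) ^ wlen f w * (conj (if wlen f (f s * w) < wlen f w then
      x (f s * w) + ((t : ℂ) - 1) * x w else (t : ℂ) * x (f s * w)) * y w) =
      A w + M w * (conj (x (f s * w)) * y w) := fun w => by
    simp only [A, M]; split_ifs <;> simp only [map_add, map_mul, map_sub, map_one, Complex.conj_ofReal] <;> ring
  simp only [hl, hr, Finset.sum_add_distrib]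
  congr 1
  refine Fintype.sum_equiv (Equiv.mulLeft (f s)) _ _ fun w => ?_
  rw [Equiv.coe_mulLeft, h.toGenInv.cancel]
  congr 1
  simp only [M, h.toGenInv.cancel]
  rcases len_left h s w with h1 | h1
  · rw [if_neg (show ¬ wlen f (f s * w) < wlen f w by omega), if_pos (show wlen f w < wlen f (f s * w) by omega), h1]
  · rw [if_pos (show wlen f (f s * w) < wlen f w by omega), if_neg (show ¬ wlen f w < wlen f (f s * w) by omega), h1]

theorem form_wordL (t : ℝ) : ∀ (l : List ι) (x y : W → ℂ),
    form f t x (wordL f t l y) = form f t (wordL f t l.reverse x) y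
  | [], _, _ => rfl
  | a :: l, x, y => by
    simp only [wordL, LinearMap.comp_apply, List.reverse_cons]
    rw [form_opL h, form_wordL t l]
    congr 1
    generalize l.reverse = m
    induction m with
    | nil => rfl
    | cons b m ih => simp only [List.cons_append, wordL, LinearMap.comp_apply, ih]

theorem form_LW (t : ℝ) (w : W) (x y : W → ℂ) :
    form f t x (LW f t w y) = form f t (LW f t w⁻¹ x) y := by
  rw [LW, form_wordL h]
  congr 1
  obtain ⟨h1, h2⟩ := word_spec h w
  refine ext_of_comm h (t := t) (fun r z => wordL_opR h t r _ z) (fun r z => wordL_opR h t r _ z) ?_ x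
  rw [wordL_one h, h.toGenInv.wprod_reverse, h1]
  · exact (LW_bas_one h t w⁻¹).symm
  show wlen f (wprod f (word f w).reverse) = _
  rw [h.toGenInv.wprod_reverse, h1, h.toGenInv.wlen_inv, List.length_reverse, h2]

omit [Fintype W] in
theorem wordR_of_central {t : ℝ} {v : W → ℂ} (hv : ∀ s, opL f t s v = opR f t s v) :
    ∀ l : List ι, wordR f t l v = wordL f t l v
  | [] => rfl
  | a :: l => by
    simp only [wordR, wordL, LinearMap.comp_apply]
    rw [← hv, ← opL_wordR h, wordR_of_central hv l]

theorem commMap_casimir {t : ℝ} (ht : 0 < t) (v : W → ℂ) : commMap f t (casimir f t v) = 0 := by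
  funext s
  simp [commMap, opL_casimir h ht s v]

theorem casimir_inj {t : ℝ} (ht : 0 < t) {v : W → ℂ} (hv : ∀ s, opL f t s v = opR f t s v)
    (h0 : casimir f t v = 0) : v = 0 := by
  classical
  have hsum : ∑ w : W, ((t : ℂ)⁻¹) ^ wlen f w * form f t (LW f t w⁻¹ v) (LW f t w⁻¹ v) = 0 := by
    have e : form f t v (casimir f t v) = 0 := by rw [h0]; simp [form]
    simp only [casimir, LinearMap.sum_apply, LinearMap.smul_apply, LinearMap.comp_apply] at e
    rw [← e]
    simp only [form, Finset.sum_apply, Pi.smul_apply, smul_eq_mul, Finset.mul_sum]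
    conv_rhs => rw [Finset.sum_comm]
    refine Finset.sum_congr rfl fun w _ => ?_
    have hw : ∑ x, (t : ℂ) ^ wlen f x * (conj (LW f t w⁻¹ v x) * LW f t w⁻¹ v x) =
        ∑ x, (t : ℂ) ^ wlen f x * (conj (v x) * LW f t w (RW f t w⁻¹ v) x) := by
      have := form_LW h t w v (RW f t w⁻¹ v)
      rw [RW, wordR_of_central h hv, ← LW] at this
      rw [RW, wordR_of_central h hv, ← LW]
      exact this.symm
    simp only [← Finset.mul_sum, hw]
    rw [Finset.mul_sum]
    exact Finset.sum_congr rfl fun x _ => by ring
  have hre : ∀ w, ((t : ℂ)⁻¹) ^ wlen f w * form f t (LW f t w⁻¹ v) (LW f t w⁻¹ v) =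
      ((t⁻¹ ^ wlen f w * ∑ x, t ^ wlen f x * Complex.normSq (LW f t w⁻¹ v x) : ℝ) : ℂ) := fun w => by
    simp only [form]
    push_cast
    congr 1
    exact Finset.sum_congr rfl fun x _ => by rw [Complex.normSq_eq_conj_mul_self]
  simp only [hre] at hsum
  rw [← Complex.ofReal_sum, Complex.ofReal_eq_zero] at hsum
  have hnn : ∀ w, ∀ x, 0 ≤ t ^ wlen f x * Complex.normSq (LW f t w⁻¹ v x) := fun w x =>
    mul_nonneg (pow_nonneg ht.le _) (Complex.normSq_nonneg _)
  have h1 := (Finset.sum_eq_zero_iff_of_nonneg fun w _ =>
    mul_nonneg (pow_nonneg (inv_nonneg.2 ht.le) _) (Finset.sum_nonneg fun x _ => hnn w x)).1 hsum 1 (Finset.mem_univ _)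
  rw [mul_eq_zero, or_iff_right (pow_ne_zero _ (inv_ne_zero ht.ne')),
    Finset.sum_eq_zero_iff_of_nonneg fun x _ => hnn 1 x] at h1
  funext x
  have hw1 : word f (1 : W) = [] := by
    have h2 := (word_spec h (1 : W)).2
    rw [wlen_one, List.length_eq_zero_iff] at h2
    exact h2
  have h2 := h1 x (Finset.mem_univ _)
  rw [mul_eq_zero, or_iff_right (pow_ne_zero _ ht.ne'), Complex.normSq_eq_zero, inv_one, LW, hw1] at h2
  exact h2

theorem rank_add {t : ℝ} (ht : 0 < t) [Finite ι] :
    Module.finrank ℂ (LinearMap.range (commMap f t)) + Module.finrank ℂ (LinearMap.range (casimir f t)) =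
      Fintype.card W := by
  have h1 : LinearMap.range (casimir f t) ≤ LinearMap.ker (commMap f t) := by
    rintro _ ⟨v, rfl⟩
    exact commMap_casimir h ht v
  have h2 : Module.finrank ℂ (LinearMap.ker (commMap f t)) ≤ Module.finrank ℂ (LinearMap.range (casimir f t)) := by
    refine LinearMap.finrank_le_finrank_of_injective
      (f := ((casimir f t).rangeRestrict).comp (LinearMap.ker (commMap f t)).subtype) ?_
    rw [← LinearMap.ker_eq_bot, LinearMap.ker_eq_bot']
    rintro ⟨v, hv⟩ e
    refine Subtype.ext (casimir_inj h ht (fun s => ?_) (congrArg Subtype.val e))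
    have := congrFun (LinearMap.mem_ker.1 hv) s
    simpa [commMap, sub_eq_zero] using this
  have h3 := Submodule.finrank_mono h1
  have h4 := LinearMap.finrank_range_add_finrank_ker (commMap f t)
  rw [Module.finrank_fintype_fun_eq_card] at h4
  omega

omit h [Fintype W] in
theorem continuous_opL (s : ι) {g : ℝ → W → ℂ} (hg : Continuous g) :
    Continuous fun t => opL f t s (g t) := by
  refine continuous_pi fun w => ?_
  simp only [opL_apply]
  split_ifs
  · exact ((continuous_apply _).comp hg).add
      ((Complex.continuous_ofReal.sub continuous_const).mul ((continuous_apply _).comp hg))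
  · exact Complex.continuous_ofReal.mul ((continuous_apply _).comp hg)

omit h [Fintype W] in
theorem continuous_opR (s : ι) {g : ℝ → W → ℂ} (hg : Continuous g) :
    Continuous fun t => opR f t s (g t) := by
  refine continuous_pi fun w => ?_
  simp only [opR_apply]
  split_ifs
  · exact ((continuous_apply _).comp hg).add
      ((Complex.continuous_ofReal.sub continuous_const).mul ((continuous_apply _).comp hg))
  · exact Complex.continuous_ofReal.mul ((continuous_apply _).comp hg)

omit h [Fintype W] in
theorem continuous_wordL : ∀ (l : List ι) {g : ℝ → W → ℂ}, Continuous g →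
    Continuous fun t => wordL f t l (g t)
  | [], _, hg => hg
  | a :: l, _, hg => continuous_opL a (continuous_wordL l hg)

omit h [Fintype W] in
theorem continuous_wordR : ∀ (l : List ι) {g : ℝ → W → ℂ}, Continuous g →
    Continuous fun t => wordR f t l (g t)
  | [], _, hg => hg
  | a :: l, _, hg => continuous_wordR l (continuous_opR a hg)

omit h in
/-- lower semicontinuity of the rank -/
theorem eventually_rank_ge {T : Type*} [TopologicalSpace T] {U : Type*} [Finite U]
    (A : T → (W → ℂ) →ₗ[ℂ] (U → ℂ)) (hA : ∀ v, Continuous fun t => A t v) (t0 : T) :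
    ∀ᶠ t in nhds t0, Module.finrank ℂ (LinearMap.range (A t0)) ≤ Module.finrank ℂ (LinearMap.range (A t)) := by
  classical
  have := Fintype.ofFinite U
  let b := Module.finBasis ℂ (LinearMap.range (A t0))
  have hb : ∀ i, ∃ v, A t0 v = (b i : U → ℂ) := fun i => (b i).2
  choose v hv using hb
  have hli : LinearIndependent ℂ (fun i => A t0 (v i)) := by
    simp only [hv]
    exact b.linearIndependent.map' (LinearMap.range (A t0)).subtype (Submodule.ker_subtype _)
  have hopen : IsOpen {x : Fin (Module.finrank ℂ (LinearMap.range (A t0))) → (U → ℂ) | LinearIndependent ℂ x} :=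
    isOpen_setOf_linearIndependent
  have hc : Continuous fun t => fun i => A t (v i) := continuous_pi fun i => hA _
  filter_upwards [hc.continuousAt.preimage_mem_nhds (hopen.mem_nhds hli)] with t ht
  have ht' : LinearIndependent ℂ (fun i => (A t).rangeRestrict (v i)) := by
    refine LinearIndependent.of_comp (LinearMap.range (A t)).subtype ?_
    exact ht
  simpa using ht'.fintype_card_le_finrank

/-- the centre has the same dimension at every positive parameter -/
theorem rank_comm_const [Finite ι] {t u : ℝ} (ht : 0 < t) (hu : 0 < u) :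
    Module.finrank ℂ (LinearMap.range (commMap f t)) = Module.finrank ℂ (LinearMap.range (commMap f u)) := by
  classical
  have := Fintype.ofFinite ι
  let φ : {x : ℝ // 0 < x} → ℕ := fun x => Module.finrank ℂ (LinearMap.range (commMap f x.1))
  -- the commutation map with values in functions on pairs
  let e : (ι → W → ℂ) ≃ₗ[ℂ] (ι × W → ℂ) := (LinearEquiv.curry ℂ ℂ ι W).symm
  have hφ : ∀ x : {x : ℝ // 0 < x}, φ x = Module.finrank ℂ (LinearMap.range (e.toLinearMap.comp (commMap f x.1))) := by
    intro x
    rw [LinearMap.range_comp]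
    exact (LinearEquiv.finrank_map_eq e _).symm
  have hloc : IsLocallyConstant φ := by
    rw [IsLocallyConstant.iff_eventually_eq]
    intro x
    have h1 := eventually_rank_ge (fun x : {x : ℝ // 0 < x} => e.toLinearMap.comp (commMap f x.1)) (fun v => by
      refine (continuous_pi fun p : ι × W => ?_)
      show Continuous fun x : {x : ℝ // 0 < x} => (opL f x.1 p.1 v - opR f x.1 p.1 v) p.2
      exact (continuous_apply p.2).comp (((continuous_opL p.1 continuous_const).sub
        (continuous_opR p.1 continuous_const)).comp continuous_subtype_val)) x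
    have h2 := eventually_rank_ge (fun x : {x : ℝ // 0 < x} => casimir f x.1) (fun v => by
      simp only [casimir, LinearMap.sum_apply, LinearMap.smul_apply, LinearMap.comp_apply]
      refine continuous_finsetSum _ fun w _ => ?_
      have hinv : Continuous fun x : {x : ℝ // 0 < x} => ((x.1 : ℂ))⁻¹ :=
        (Complex.continuous_ofReal.comp continuous_subtype_val).inv₀ (fun x => Complex.ofReal_ne_zero.2 x.2.ne')
      refine (hinv.pow (wlen f w)).smul ?_
      exact (continuous_wordL _ (continuous_wordR _ continuous_const)).comp continuous_subtype_val) x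
    filter_upwards [h1, h2] with y hy1 hy2
    rw [← hφ, ← hφ] at hy1
    have e1 := rank_add h x.2
    have e2 := rank_add h y.2
    simp only [φ] at hy1 ⊢
    omega
  have : PreconnectedSpace {x : ℝ // 0 < x} := isPreconnected_iff_preconnectedSpace.1 isPreconnected_Ioi
  exact hloc.apply_eq_of_preconnectedSpace ⟨t, ht⟩ ⟨u, hu⟩

theorem finrank_centre [Finite ι] {t : ℝ} (ht : 0 < t) :
    Module.finrank ℂ (LinearMap.ker (commMap f t)) = Nat.card (ConjClasses W) := by
  classical
  have := Fintype.ofFinite (ConjClasses W)
  have h1 := rank_comm_const h ht one_pos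
  have e1 := LinearMap.finrank_range_add_finrank_ker (commMap f t)
  have e2 := LinearMap.finrank_range_add_finrank_ker (commMap f 1)
  have hmem : ∀ v : W → ℂ, v ∈ LinearMap.ker (commMap f 1) ↔ ∀ s w, v (f s * w) = v (w * f s) := by
    intro v
    simp [LinearMap.mem_ker, commMap, funext_iff, opL_apply, opR_apply, sub_eq_zero]
  have hcl : ∀ v ∈ LinearMap.ker (commMap f 1), ∀ a b : W, IsConj a b → v a = v b := by
    intro v hv a b hab
    obtain ⟨c, rfl⟩ := isConj_iff.1 hab
    obtain ⟨l, rfl⟩ := h.gen c
    clear hab
    induction l with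
    | nil => simp
    | cons s l ih =>
      rw [ih, wprod_cons, mul_inv_rev, h.toGenInv.inv]
      have := (hmem v).1 hv s (wprod f l * a * (wprod f l)⁻¹ * f s)
      rw [h.toGenInv.cancel_right] at this
      rw [← this]
      congr 1
      simp only [mul_assoc]
  let e : LinearMap.ker (commMap f 1) ≃ₗ[ℂ] (ConjClasses W → ℂ) :=
    { toFun := fun v C => v.1 (Quotient.out C)
      map_add' := fun _ _ => rfl
      map_smul' := fun _ _ => rfl
      invFun := fun g => ⟨fun w => g (ConjClasses.mk w), (hmem _).2 fun s w => congrArg g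
        (ConjClasses.mk_eq_mk_iff_isConj.2 (isConj_iff.2 ⟨f s, by rw [h.toGenInv.cancel, h.toGenInv.inv]⟩))⟩
      left_inv := fun v => Subtype.ext (funext fun w => hcl v.1 v.2 _ _
        (ConjClasses.mk_eq_mk_iff_isConj.1 (Quotient.out_eq (ConjClasses.mk w))))
      right_inv := fun g => funext fun C => congrArg g (Quotient.out_eq C) }
  have h2 := e.finrank_eq
  rw [Module.finrank_fintype_fun_eq_card, ← Nat.card_eq_fintype_card] at h2
  omega

end Centre

end CfsgLib.Lie.Hecke
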