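/-
Elements of prime order in dimension seven over a finite field of characteristic three whose eigenvalues generate the
extension of degree six.
-/
import Mathlib.FieldTheory.IsAlgClosed.AlgebraicClosure
import Mathlib.FieldTheory.Finite.Basic
import Mathlib.LinearAlgebra.Matrix.CharP
import Mathlib.LinearAlgebra.Eigenspace.Basic
import Mathlib.LinearAlgebra.Matrix.Charpoly.Eigs
import Mathlib.LinearAlgebra.Matrix.ToLinearEquiv

set_option autoImplicit false

namespace CfsgLib.Lie.SevenEigen

open Polynomial Matrix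

universe u

variable {F : Type u} [Field F] [Fintype F]

theorem mod_eq_one_of_pow {L : Type*} [Field L] {lam : L} {p n : ℕ} (hp : p.Prime) (ho : orderOf lam = p)
    (e : lam ^ n = lam) : n % p = 1 := by
  have h1 : lam ^ (n % p) = lam ^ 1 := by rw [← ho, pow_mod_orderOf, e, pow_one]
  exact pow_injOn_Iio_orderOf (by rw [ho]; exact Nat.mod_lt _ hp.pos) (by rw [ho]; exact hp.one_lt) h1

theorem pow_inj_of_order {L : Type*} [Field L] {lam : L} {p q : ℕ} (hp : p.Prime) (hl : lam ^ p = 1) (h1 : lam ≠ 1)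
    (hq6 : q ^ 6 % p = 1) (hord : ∀ i, 0 < i → i < 6 → q ^ i % p ≠ 1) {i j : ℕ} (hi : i < 6) (hj : j < 6)
    (e : lam ^ q ^ i = lam ^ q ^ j) : i = j := by
  have : Fact p.Prime := ⟨hp⟩
  have ho : orderOf lam = p := orderOf_eq_prime hl h1
  have key : ∀ a b, a ≤ b → b < 6 → lam ^ q ^ a = lam ^ q ^ b → a = b := by
    intro a b hab hb e
    by_contra hne
    refine hord (b - a) (by omega) (by omega) ?_
    have h6 : lam ^ q ^ 6 = lam := by
      rw [← Nat.div_add_mod (q ^ 6) p, hq6, pow_succ, pow_mul, hl, one_pow, one_mul]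
    have e' : lam ^ q ^ (b - a) = lam := by
      have := congrArg (fun x => x ^ q ^ (6 - a)) e
      simp only [← pow_mul, ← pow_add] at this
      rw [show a + (6 - a) = 6 by omega, show b + (6 - a) = 6 + (b - a) by omega, h6, pow_add, pow_mul, h6] at this
      exact this.symm
    exact mod_eq_one_of_pow hp ho e'
  rcases le_total i j with h | h
  · exact key i j h hj e
  · exact (key j i h hi e.symm).symm

theorem eq_one_of_fixed {L : Type*} [Field L] {c : L} {q k : ℕ} (hq : 0 < q) (hc : c ≠ 0) (hfix : c ^ q = c)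
    (hk : c ^ k = 1) (hco : Nat.Coprime k (q - 1)) : c = 1 := by
  have h1 : c ^ (q - 1) = 1 := mul_left_cancel₀ hc (by
    rw [← pow_succ', Nat.sub_add_cancel hq, hfix, mul_one])
  have := pow_gcd_eq_one.2 ⟨hk, h1⟩
  rwa [Nat.Coprime.gcd_eq_one hco, pow_one] at this

/-- the data extracted from an element of prime order -/
theorem exists_character (h3 : (3 : F) = 0) {p : ℕ} (hp : p.Prime) (hp3 : p ≠ 3)
    (hq6 : Fintype.card F ^ 6 % p = 1) (hord : ∀ i, 0 < i → i < 6 → Fintype.card F ^ i % p ≠ 1)
    (X : Matrix (Fin 7) (Fin 7) F) (hX : X ^ p = 1) (hX1 : X ≠ 1) :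
    ∃ (L : Type u) (_ : Field L) (lam : L) (χ : {Y : Matrix (Fin 7) (Fin 7) F // Y * X = X * Y} → L),
      (∀ Y Z W, W.1 = Y.1 * Z.1 → χ W = χ Y * χ Z) ∧ (∀ Y, Y.1 = 1 → χ Y = 1) ∧
      (∀ Y k, Nat.Coprime k (Fintype.card F - 1) → Y.1 ^ k = 1 → χ Y = 1 → Y.1 = 1) ∧
      (∀ (Y : Matrix (Fin 7) (Fin 7) F) (k : ℕ), IsUnit Y → Y * X = X ^ k * Y →
        ∃ i < 6, (k * Fintype.card F ^ i) % p = 1) := by
  classical
  obtain ⟨L, _, _, _⟩ : ∃ (L : Type u) (_ : Field L) (_ : Algebra F L), IsAlgClosed L :=
    ⟨AlgebraicClosure F, inferInstance, inferInstance, inferInstance⟩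
  let q := Fintype.card F
  have hq : 0 < q := Fintype.card_pos
  let Φ : L →+* L := (FiniteField.frobeniusAlgHom F L).toRingHom
  have hΦ : ∀ x : L, Φ x = x ^ q := fun x => congrFun (FiniteField.coe_frobeniusAlgHom F L) x
  let a := algebraMap F L
  have hΦa : ∀ x : F, Φ (a x) = a x := fun x => (FiniteField.frobeniusAlgHom F L).commutes x
  have hΦinj : Function.Injective Φ := Φ.injective
  let XL : Matrix (Fin 7) (Fin 7) L := X.map a
  have hXL : XL ^ p = 1 := by
    show (a.mapMatrix X) ^ p = 1
    rw [← map_pow, hX, map_one]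
  -- the roots of the characteristic polynomial
  let P : L[X] := XL.charpoly
  have hPmap : P.map Φ = P := by
    rw [show P = X.charpoly.map a from Matrix.charpoly_map X a, Polynomial.map_map]
    congr 1
    ext x
    exact hΦa x
  have hPcard : P.roots.card = 7 := by
    rw [IsAlgClosed.card_roots_eq_natDegree, Matrix.charpoly_natDegree_eq_dim, Fintype.card_fin]
  have hP0 : P ≠ 0 := (Matrix.charpoly_monic XL).ne_zero
  have heig : ∀ μ ∈ P.roots, ∃ v : Fin 7 → L, v ≠ 0 ∧ XL *ᵥ v = μ • v := by
    intro μ hμ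
    have h0 : (Matrix.scalar (Fin 7) μ - XL).det = 0 := by
      have := (Polynomial.mem_roots hP0).1 hμ
      rwa [Polynomial.IsRoot, Matrix.eval_charpoly] at this
    obtain ⟨v, hv, e⟩ := Matrix.exists_mulVec_eq_zero_iff.2 h0
    refine ⟨v, hv, ?_⟩
    rw [Matrix.sub_mulVec, sub_eq_zero] at e
    rw [← e]
    ext i
    simp [Matrix.mulVec_diagonal]
  have hpowv : ∀ (μ : L) (v : Fin 7 → L), XL *ᵥ v = μ • v → ∀ n : ℕ, (XL ^ n) *ᵥ v = μ ^ n • v := by
    intro μ v e n
    induction n with
    | zero => simp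
    | succ n ih => rw [pow_succ, ← Matrix.mulVec_mulVec, e, Matrix.mulVec_smul, ih, smul_smul, ← pow_succ']
  have hrootp : ∀ μ ∈ P.roots, μ ^ p = 1 := by
    intro μ hμ
    obtain ⟨v, hv, e⟩ := heig μ hμ
    have := hpowv μ v e p
    rw [hXL, Matrix.one_mulVec] at this
    by_contra h
    exact hv ((smul_eq_zero.1 (show (μ ^ p - 1) • v = 0 by rw [sub_smul, one_smul, ← this, sub_self])).resolve_left
      (sub_ne_zero.2 h))
  -- some root is not `1`
  obtain ⟨lam, hlam, hlam1⟩ : ∃ lam ∈ P.roots, lam ≠ 1 := by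
    by_contra hc
    have hc : ∀ x ∈ P.roots, x = 1 := fun x hx => by
      by_contra h; exact hc ⟨x, hx, h⟩
    have hR : P.roots = Multiset.replicate 7 (1 : L) := Multiset.eq_replicate.2 ⟨hPcard, hc⟩
    have hprod : P = (Polynomial.X - Polynomial.C (1 : L)) ^ 7 := by
      show XL.charpoly = _
      rw [← Polynomial.prod_multiset_X_sub_C_of_monic_of_roots_card_eq (Matrix.charpoly_monic XL)
        (hPcard.trans (by rw [Matrix.charpoly_natDegree_eq_dim, Fintype.card_fin])), hR, Multiset.map_replicate,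
        Multiset.prod_replicate]
    have h7 : (XL - 1) ^ 7 = 0 := by
      have h := Matrix.aeval_self_charpoly XL
      change Polynomial.aeval XL P = 0 at h
      rw [hprod] at h
      simpa using h
    have h9 : (XL - 1) ^ 9 = 0 := by rw [show 9 = 7 + 2 from rfl, pow_add, h7, zero_mul]
    have h3L : (3 : L) = 0 := by rw [← map_ofNat a 3, h3, map_zero]
    have e9 : XL ^ 9 = 1 := by
      have : Fact (Nat.Prime 3) := ⟨Nat.prime_three⟩
      have : CharP L 3 := (CharP.charP_iff_prime_eq_zero Nat.prime_three).2 (by exact_mod_cast h3L)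
      have e : (XL - 1) ^ 3 ^ 2 = XL ^ 3 ^ 2 - 1 ^ 3 ^ 2 := sub_pow_char_pow_of_commute (p := 3) (n := 2) (Commute.one_right XL)
      norm_num at e
      rw [h9] at e
      exact (sub_eq_zero.1 e.symm)
    have : XL = 1 := by
      have hg := pow_gcd_eq_one.2 ⟨e9, hXL⟩
      have hco : Nat.gcd 9 p = 1 := by
        rw [show 9 = 3 ^ 2 from rfl]
        exact Nat.Coprime.pow_left 2 ((Nat.coprime_primes Nat.prime_three hp).2 (Ne.symm hp3))
      rwa [hco, pow_one] at hg
    exact hX1 (Matrix.map_injective a.injective (this.trans (map_one a.mapMatrix).symm))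
  have hlp := hrootp lam hlam
  have hl0 : lam ≠ 0 := fun h => by rw [h, zero_pow hp.ne_zero] at hlp; exact zero_ne_one hlp
  have hrootsmap : P.roots.map Φ = P.roots := by
    conv_rhs => rw [← hPmap]
    exact Polynomial.roots_map_of_injective_of_card_eq_natDegree hΦinj
      (hPcard.trans (by rw [Matrix.charpoly_natDegree_eq_dim, Fintype.card_fin]))
  let c : Fin 6 → L := fun i => lam ^ q ^ (i : ℕ)
  have hcinj : Function.Injective c := fun i j e => Fin.ext (pow_inj_of_order hp hlp hlam1 hq6 hord i.2 j.2 e)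
  have hcmem : ∀ i, c i ∈ P.roots := by
    rintro ⟨i, hi⟩
    induction i with
    | zero => simpa [c] using hlam
    | succ n ih =>
      have := Multiset.mem_map_of_mem Φ (ih (by omega))
      rw [hrootsmap, hΦ] at this
      simpa [c, pow_succ, pow_mul] using this
  have h6 : lam ^ q ^ 6 = lam := by
    rw [← Nat.div_add_mod (q ^ 6) p, hq6, pow_succ, pow_mul, hlp, one_pow, one_mul]
  have hle : (Finset.univ.image c).val ≤ P.roots := (Multiset.le_iff_subset (Finset.nodup _)).2 fun x hx => by
    obtain ⟨i, -, rfl⟩ := Finset.mem_image.1 (Finset.mem_def.2 hx)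
    exact hcmem i
  obtain ⟨rest, hrest⟩ := Multiset.le_iff_exists_add.1 hle
  obtain ⟨μ, rfl⟩ : ∃ μ, rest = {μ} := by
    refine Multiset.card_eq_one.1 ?_
    have := congrArg Multiset.card hrest
    rw [Multiset.card_add, hPcard, Finset.card_val, Finset.card_image_of_injective _ hcinj, Finset.card_univ,
      Fintype.card_fin] at this
    omega
  have hshift : (Finset.univ.image c).val.map Φ = (Finset.univ.image c).val := by
    rw [← Finset.image_val_of_injOn (hΦinj.injOn)]
    congr 1
    refine Finset.eq_of_subset_of_card_le (fun x hx => ?_) (Finset.card_image_of_injective _ hΦinj).ge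
    obtain ⟨y, hy, rfl⟩ := Finset.mem_image.1 hx
    obtain ⟨i, -, rfl⟩ := Finset.mem_image.1 hy
    refine Finset.mem_image.2 ?_
    by_cases h5 : (i : ℕ) = 5
    · exact ⟨0, Finset.mem_univ _, by simp [c, hΦ, h5, ← pow_mul, ← pow_succ, h6]⟩
    · exact ⟨⟨(i : ℕ) + 1, by have := i.2; omega⟩, Finset.mem_univ _, by simp [c, hΦ, ← pow_mul, ← pow_succ]⟩
  have hμfix : μ ^ q = μ := by
    have := congrArg (Multiset.map Φ) hrest
    rw [hrootsmap, Multiset.map_add, hshift, Multiset.map_singleton, hrest, add_right_inj, Multiset.singleton_inj,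
      hΦ] at this
    exact this.symm
  have hμr : μ ∈ P.roots := by rw [hrest]; exact Multiset.mem_add.2 (Or.inr (Multiset.mem_singleton_self _))
  have hμp := hrootp μ hμr
  have hpq1 : Nat.Coprime p (q - 1) := by
    rw [hp.coprime_iff_not_dvd]
    intro hd
    refine hord 1 one_pos (by norm_num) ?_
    show q ^ 1 % p = 1
    rw [pow_one, ← Nat.sub_add_cancel hq, Nat.add_mod, Nat.mod_eq_zero_of_dvd hd, zero_add, Nat.mod_mod,
      Nat.mod_eq_of_lt hp.one_lt]
  have hμ : μ = 1 := eq_one_of_fixed hq (fun h => by rw [h, zero_pow hp.ne_zero] at hμp; exact zero_ne_one hμp)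
    hμfix hμp hpq1
  subst hμ
  -- eigenvectors
  obtain ⟨v, hv0, hv⟩ := heig lam hlam
  obtain ⟨e, he0, he⟩ := heig 1 hμr
  let fr : ℕ → (Fin 7 → L) → (Fin 7 → L) := fun n w => fun i => Φ^[n] (w i)
  have hfr : ∀ (M : Matrix (Fin 7) (Fin 7) F) (w : Fin 7 → L) (c : L) (n : ℕ), M.map a *ᵥ w = c • w →
      M.map a *ᵥ fr n w = (Φ^[n] c) • fr n w := by
    intro M w c n h
    induction n with
    | zero => exact h
    | succ n ih =>
      ext i
      have := congrArg Φ (congrFun ih i)
      simp only [fr, Function.iterate_succ_apply', Matrix.mulVec, dotProduct, Matrix.map_apply, Pi.smul_apply,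
        smul_eq_mul, map_sum, map_mul, hΦa] at this ⊢
      exact this
  have hfr0 : ∀ n w, w ≠ 0 → fr n w ≠ 0 := fun n w hw h => hw (by
    ext i
    exact (hΦinj.iterate n) ((congrFun h i).trans (iterate_map_zero Φ n).symm))
  have hiter : ∀ (x : L) n, Φ^[n] x = x ^ q ^ n := by
    intro x n
    induction n with
    | zero => simp
    | succ n ih => rw [Function.iterate_succ_apply', ih, hΦ, ← pow_mul, ← pow_succ]
  let ev : Option (Fin 6) → L := fun o => o.elim 1 c
  let vec : Option (Fin 6) → Fin 7 → L := fun o => o.elim e fun i => fr i v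
  have hevinj : Function.Injective ev := by
    have hne : ∀ i, c i ≠ 1 := fun i h => by
      have h' : lam ^ q ^ (i : ℕ) = 1 := h
      have hd := orderOf_dvd_of_pow_eq_one h'
      rw [show orderOf lam = p from (have : Fact p.Prime := ⟨hp⟩; orderOf_eq_prime hlp hlam1)] at hd
      have hd6 : p ∣ q ^ 6 := (hp.dvd_of_dvd_pow hd).trans (dvd_pow_self q (by norm_num))
      rw [Nat.mod_eq_zero_of_dvd hd6] at hq6
      exact zero_ne_one hq6
    rintro (_ | i) (_ | j) h
    · rfl
    · exact absurd h.symm (hne j)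
    · exact absurd h (hne i)
    · exact congrArg some (hcinj h)
  have hvec : ∀ o, XL *ᵥ vec o = ev o • vec o := by
    rintro (_ | i)
    · exact he
    · have := hfr X v lam i hv
      rw [hiter] at this
      exact this
  have hvec0 : ∀ o, vec o ≠ 0 := by
    rintro (_ | i)
    · exact he0
    · exact hfr0 _ _ hv0
  have hli : LinearIndependent L vec :=
    Module.End.eigenvectors_linearIndependent' (Matrix.toLin' XL) ev hevinj vec fun o =>
      ⟨Module.End.mem_eigenspace_iff.2 (by rw [Matrix.toLin'_apply, hvec]), hvec0 o⟩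
  let B := basisOfLinearIndependentOfCardEqFinrank hli (by simp)
  have hB : ∀ o, B o = vec o := fun o => by simp [B]
  have line : ∀ o w, XL *ᵥ w = ev o • w → ∃ s : L, w = s • vec o := by
    intro o w hw
    refine ⟨B.repr w o, ?_⟩
    have e1 : XL *ᵥ w = ∑ o', (B.repr w o' * ev o') • B o' := by
      conv_lhs => rw [← B.sum_repr w, Matrix.mulVec_sum]
      refine Finset.sum_congr rfl fun o' _ => ?_
      rw [Matrix.mulVec_smul, hB, hvec, smul_smul]
    have e2 : ev o • w = ∑ o', (B.repr w o' * ev o) • B o' := by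
      conv_lhs => rw [← B.sum_repr w, Finset.smul_sum]
      refine Finset.sum_congr rfl fun o' _ => ?_
      rw [smul_smul, mul_comm]
    rw [e1, e2] at hw
    conv_lhs => rw [← B.sum_repr w]
    rw [← hB]
    refine Finset.sum_eq_single o (fun o' _ ho' => ?_) fun h => absurd (Finset.mem_univ _) h
    have h' := congrArg (fun z => B.repr z o') hw
    simp only [B.repr_sum_self] at h'
    have h0 : B.repr w o' * (ev o' - ev o) = 0 := by rw [mul_sub, h', sub_self]
    rcases mul_eq_zero.1 h0 with h0 | h0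
    · rw [h0, zero_smul]
    · exact absurd (hevinj (sub_eq_zero.1 h0)) ho'
  have hex : ∀ (Y : {Y : Matrix (Fin 7) (Fin 7) F // Y * X = X * Y}) o, ∃ s : L, Y.1.map a *ᵥ vec o = s • vec o := by
    intro Y o
    refine line o _ ?_
    have hc : XL * Y.1.map a = Y.1.map a * XL := by
      show a.mapMatrix X * a.mapMatrix Y.1 = a.mapMatrix Y.1 * a.mapMatrix X
      rw [← map_mul, ← map_mul, Y.2]
    rw [Matrix.mulVec_mulVec, hc, ← Matrix.mulVec_mulVec, hvec, Matrix.mulVec_smul]
  choose χ hχ using hex
  have uniq : ∀ o (s t : L), s • vec o = t • vec o → s = t := fun o s t h => smul_left_injective L (hvec0 o) h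
  refine ⟨L, inferInstance, lam, fun Y => χ Y (some 0), ?_, ?_, ?_, ?_⟩
  · intro Y Z W hW
    refine uniq (some 0) _ _ ?_
    rw [← hχ W, hW]
    show a.mapMatrix (Y.1 * Z.1) *ᵥ _ = _
    rw [map_mul, ← Matrix.mulVec_mulVec]
    show Y.1.map a *ᵥ (Z.1.map a *ᵥ _) = _
    rw [hχ, Matrix.mulVec_smul, hχ, smul_smul, mul_comm]
  · intro Y hY
    refine uniq (some 0) _ _ ?_
    rw [← hχ Y, hY]
    show a.mapMatrix 1 *ᵥ _ = _
    rw [map_one, Matrix.one_mulVec, one_smul]
  · intro Y k hk hYk h1
    have hall : ∀ o, χ Y o = 1 := by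
      rintro (_ | i)
      · have hs := hχ Y none
        have hfix := hfr Y.1 _ _ 1 hs
        obtain ⟨t, ht⟩ := line none (fr 1 (vec none)) (by
          have := hfr X _ _ 1 (hvec none)
          simpa [ev] using this)
        rw [hiter, pow_one, ht, Matrix.mulVec_smul, hs, smul_smul, smul_smul] at hfix
        have ht0 : t ≠ 0 := fun h => hfr0 1 _ (hvec0 none) (by rw [ht, h, zero_smul])
        have hcq : (χ Y none) ^ q = χ Y none :=
          (mul_left_cancel₀ ht0 ((uniq none _ _ hfix).trans (mul_comm _ _))).symm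
        have hpk : ∀ n : ℕ, (Y.1.map a) ^ n *ᵥ vec none = (χ Y none) ^ n • vec none := by
          intro n
          induction n with
          | zero => simp
          | succ n ih => rw [pow_succ, ← Matrix.mulVec_mulVec, hs, Matrix.mulVec_smul, ih, smul_smul, ← pow_succ']
        have hck : (χ Y none) ^ k = 1 := by
          refine uniq none _ _ ?_
          rw [← hpk, one_smul]
          show (a.mapMatrix Y.1) ^ k *ᵥ _ = _
          rw [← map_pow, hYk, map_one, Matrix.one_mulVec]
        rcases eq_or_ne k 0 with rfl | hk0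
        · have hq2 : q - 1 = 1 := by simpa using hk
          have h3L : Fintype.card F = 2 := by omega
          have : (2 : F) = 0 := by
            have := FiniteField.cast_card_eq_zero F
            rw [h3L] at this; exact_mod_cast this
          exact absurd (by linear_combination h3 - this : (1 : F) = 0) one_ne_zero
        · exact eq_one_of_fixed hq (fun h => by rw [h, zero_pow hk0] at hck; exact zero_ne_one hck) hcq hck hk
      · have hs := hχ Y (some 0)
        rw [show χ Y (some 0) = 1 from h1, one_smul] at hs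
        have := hfr Y.1 v 1 i (by simpa [vec, fr] using hs)
        rw [iterate_map_one] at this
        refine uniq (some i) _ _ ?_
        rw [← hχ Y (some i)]
        exact this
    apply Matrix.map_injective a.injective
    show Y.1.map a = a.mapMatrix 1
    rw [map_one]
    refine Matrix.toLin'.injective (B.ext fun o => ?_)
    rw [Matrix.toLin'_apply, Matrix.toLin'_apply, hB, hχ, hall, one_smul, Matrix.one_mulVec]
  · intro Y k hY hYX
    let YL : Matrix (Fin 7) (Fin 7) L := a.mapMatrix Y
    have hYL : IsUnit YL := hY.map a.mapMatrix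
    obtain ⟨w, hw⟩ : ∃ w, w = YL *ᵥ vec (some 0) := ⟨_, rfl⟩
    have hw0 : w ≠ 0 := fun h => hvec0 (some 0) (Matrix.mulVec_injective_iff_isUnit.2 hYL (by
      rw [Matrix.mulVec_zero, ← hw, h]))
    have hwe : (XL ^ k) *ᵥ w = lam • w := by
      have e : YL * XL = XL ^ k * YL := by
        show a.mapMatrix Y * a.mapMatrix X = (a.mapMatrix X) ^ k * a.mapMatrix Y
        rw [← map_pow, ← map_mul, ← map_mul, hYX]
      rw [hw, Matrix.mulVec_mulVec, ← e, ← Matrix.mulVec_mulVec, hvec, Matrix.mulVec_smul]
      simp [ev, c]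
    obtain ⟨o, ho⟩ : ∃ o, B.repr w o ≠ 0 := by
      by_contra hc
      refine hw0 ?_
      rw [← B.sum_repr w]
      refine Finset.sum_eq_zero fun o _ => ?_
      rw [show B.repr w o = 0 by by_contra h; exact hc ⟨o, h⟩, zero_smul]
    have hev : ev o ^ k = lam := by
      have e1 : (XL ^ k) *ᵥ w = ∑ o', (B.repr w o' * ev o' ^ k) • B o' := by
        conv_lhs => rw [← B.sum_repr w, Matrix.mulVec_sum]
        refine Finset.sum_congr rfl fun o' _ => ?_
        rw [Matrix.mulVec_smul, hB, hpowv _ _ (hvec o'), smul_smul]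
      have e2 : lam • w = ∑ o', (B.repr w o' * lam) • B o' := by
        conv_lhs => rw [← B.sum_repr w, Finset.smul_sum]
        refine Finset.sum_congr rfl fun o' _ => ?_
        rw [smul_smul, mul_comm]
      rw [e1, e2] at hwe
      have h' := congrArg (fun z => B.repr z o) hwe
      simp only [B.repr_sum_self] at h'
      exact mul_left_cancel₀ ho h'
    rcases o with _ | i
    · exact absurd (by rw [← hev]; exact one_pow k) hlam1
    · refine ⟨i, i.2, ?_⟩
      have h' : lam ^ (q ^ (i : ℕ) * k) = lam ^ 1 := by rw [pow_mul, pow_one]; exact hev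
      rw [mul_comm]
      exact mod_eq_one_of_pow hp (have : Fact p.Prime := ⟨hp⟩; orderOf_eq_prime hlp hlam1) (h'.trans (pow_one lam))

end CfsgLib.Lie.SevenEigen
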