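/-
Split rank one decompositions: three-point stabilisers and trivial intersection of the unipotent conjugates.
-/
import Mathlib.GroupTheory.Sylow
import Mathlib.GroupTheory.GroupAction.Quotient

set_option autoImplicit false

namespace CfsgLib.Lie

/-- a group split as `B ∪ U n B` with `B = U H` -/
structure SplitRankOne {G : Type*} [Group G] (B U H : Subgroup G) (n : G) : Prop where
  U_le : U ≤ B
  H_le : H ≤ B
  factor : ∀ b ∈ B, ∃ u ∈ U, ∃ h ∈ H, b = u * h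
  conj_U : ∀ h ∈ H, ∀ u ∈ U, h * u * h⁻¹ ∈ U
  conj_H : ∀ h ∈ H, n⁻¹ * h * n ∈ H
  inter : ∀ u ∈ U, n⁻¹ * u * n ∈ B → u = 1
  cover : ∀ g : G, g ∉ B → ∃ u ∈ U, ∃ b ∈ B, g = u * n * b

namespace SplitRankOne

variable {G : Type*} [Group G] {B U H : Subgroup G} {n : G} (S : SplitRankOne B U H n)
include S

theorem coset_cases (x : G ⧸ B) : x = ((1 : G) : G ⧸ B) ∨ ∃ u ∈ U, x = ((u * n : G) : G ⧸ B) := by
  obtain ⟨g, rfl⟩ := QuotientGroup.mk_surjective x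
  by_cases hg : g ∈ B
  · exact Or.inl (QuotientGroup.eq.2 (by simpa using inv_mem hg))
  · obtain ⟨u, hu, b, hb, rfl⟩ := S.cover g hg
    exact Or.inr ⟨u, hu, QuotientGroup.eq.2 (by simpa [mul_assoc] using inv_mem hb)⟩

theorem coset_inj {u v : G} (hu : u ∈ U) (hv : v ∈ U) (h : ((u * n : G) : G ⧸ B) = ((v * n : G) : G ⧸ B)) : u = v := by
  rw [QuotientGroup.eq] at h
  exact inv_mul_eq_one.1 (S.inter _ (mul_mem (inv_mem hu) hv) (by simpa [mul_assoc] using h))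

theorem not_mem (w : G) (hw : w ∈ U) (hw1 : w ≠ 1) : n ∉ B := fun hn =>
  hw1 (S.inter w hw (mul_mem (mul_mem (inv_mem hn) (S.U_le hw)) hn))

theorem stab_inf (w : G) (hw : w ∈ U) :
    MulAction.stabilizer G ((1 : G) : G ⧸ B) ⊓ MulAction.stabilizer G ((n : G) : G ⧸ B) ⊓
      MulAction.stabilizer G ((w * n : G) : G ⧸ B) = H ⊓ Subgroup.centralizer {w} := by
  ext g
  simp only [Subgroup.mem_inf, MulAction.mem_stabilizer_iff, MulAction.Quotient.smul_coe, smul_eq_mul,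
    Subgroup.mem_centralizer_singleton_iff]
  have fix : ∀ h ∈ H, ∀ u : G, ((h * (u * n) : G) : G ⧸ B) = ((h * u * h⁻¹ * n : G) : G ⧸ B) := fun h hh u => by
    rw [QuotientGroup.eq]
    have e : (h * (u * n))⁻¹ * (h * u * h⁻¹ * n) = (n⁻¹ * h * n)⁻¹ := by group
    rw [e]
    exact inv_mem (S.H_le (S.conj_H h hh))
  constructor
  · rintro ⟨⟨h1, h2⟩, h3⟩
    have hgB : g ∈ B := by simpa [QuotientGroup.eq] using h1
    obtain ⟨u, hu, h, hh, rfl⟩ := S.factor g hgB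
    have e2 : ((u * h * n : G) : G ⧸ B) = ((u * n : G) : G ⧸ B) := by
      rw [QuotientGroup.eq]
      have e : (u * h * n)⁻¹ * (u * n) = (n⁻¹ * h * n)⁻¹ := by group
      rw [e]
      exact inv_mem (S.H_le (S.conj_H h hh))
    rw [e2] at h2
    have hu1 : u = 1 := by
      refine S.coset_inj hu (one_mem _) ?_
      rw [h2, one_mul]
    subst hu1
    rw [one_mul] at h3 ⊢
    refine ⟨hh, ?_⟩
    rw [fix h hh w] at h3
    have := S.coset_inj (S.conj_U h hh w hw) hw h3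
    exact mul_inv_eq_iff_eq_mul.1 this
  · rintro ⟨hh, hc⟩
    refine ⟨⟨?_, ?_⟩, ?_⟩
    · rw [QuotientGroup.eq]
      simpa using inv_mem (S.H_le hh)
    · rw [QuotientGroup.eq]
      have e : (g * n)⁻¹ * n = (n⁻¹ * g * n)⁻¹ := by group
      rw [e]
      exact inv_mem (S.H_le (S.conj_H g hh))
    · rw [fix g hh w, hc, mul_inv_cancel_right]

theorem exists_conj {x y z : G ⧸ B} (hxy : x ≠ y) (hxz : x ≠ z) (hyz : y ≠ z) :
    ∃ a : G, ∃ w ∈ U, w ≠ 1 ∧ x = a • ((1 : G) : G ⧸ B) ∧ y = a • ((n : G) : G ⧸ B) ∧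
      z = a • ((w * n : G) : G ⧸ B) := by
  obtain ⟨g, rfl⟩ := QuotientGroup.mk_surjective x
  have hne : ∀ c : G ⧸ B, ((g : G) : G ⧸ B) ≠ c → g⁻¹ • c ≠ ((1 : G) : G ⧸ B) := fun c hc e => hc (by
    rw [← smul_inv_smul g c, e, MulAction.Quotient.smul_coe, smul_eq_mul, mul_one])
  obtain ⟨u, hu, ey⟩ := (S.coset_cases (g⁻¹ • y)).resolve_left (hne y hxy)
  obtain ⟨v, hv, ez⟩ := (S.coset_cases (g⁻¹ • z)).resolve_left (hne z hxz)
  refine ⟨g * u, u⁻¹ * v, mul_mem (inv_mem hu) hv, fun e => hyz ?_, ?_, ?_, ?_⟩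
  · rw [inv_mul_eq_one] at e
    subst e
    exact smul_left_cancel g⁻¹ (ey.trans ez.symm)
  · rw [MulAction.Quotient.smul_coe, QuotientGroup.eq, smul_eq_mul, mul_one, inv_mul_cancel_left]
    exact S.U_le hu
  · rw [mul_smul, ← inv_smul_eq_iff, ey, MulAction.Quotient.smul_coe, smul_eq_mul]
  · rw [mul_smul, ← inv_smul_eq_iff, ez, MulAction.Quotient.smul_coe, smul_eq_mul, ← mul_assoc,
      mul_inv_cancel_left]

theorem card_stab_three {x y z : G ⧸ B} (hxy : x ≠ y) (hxz : x ≠ z) (hyz : y ≠ z) :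
    ∃ w ∈ U, w ≠ 1 ∧ Nat.card ↥(MulAction.stabilizer G x ⊓ MulAction.stabilizer G y ⊓ MulAction.stabilizer G z) =
      Nat.card ↥(H ⊓ Subgroup.centralizer {w}) := by
  obtain ⟨a, w, hw, hw1, rfl, rfl, rfl⟩ := S.exists_conj hxy hxz hyz
  refine ⟨w, hw, hw1, ?_⟩
  simp only [MulAction.stabilizer_smul_eq_stabilizer_map_conj]
  rw [← Subgroup.map_inf _ _ _ (MulEquiv.injective _), ← Subgroup.map_inf _ _ _ (MulEquiv.injective _),
    Subgroup.card_map_of_injective (MulEquiv.injective _), S.stab_inf w hw]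

theorem three_points (w : G) (hw : w ∈ U) (hw1 : w ≠ 1) :
    ((1 : G) : G ⧸ B) ≠ ((n : G) : G ⧸ B) ∧ ((1 : G) : G ⧸ B) ≠ ((w * n : G) : G ⧸ B) ∧
      ((n : G) : G ⧸ B) ≠ ((w * n : G) : G ⧸ B) := by
  refine ⟨?_, ?_, ?_⟩
  · rw [Ne, QuotientGroup.eq, inv_one, one_mul]
    exact S.not_mem w hw hw1
  · rw [Ne, QuotientGroup.eq, inv_one, one_mul, B.mul_mem_cancel_left (S.U_le hw)]
    exact S.not_mem w hw hw1
  · intro e
    refine hw1 (S.coset_inj hw (one_mem _) ?_)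
    rw [one_mul, e]

theorem inter_conj {g : G} (hg : g ∉ B) {x : G} (hx : x ∈ U) (hx' : g⁻¹ * x * g ∈ U) : x = 1 := by
  obtain ⟨u, hu, b, hb, rfl⟩ := S.cover g hg
  have h1 : n⁻¹ * (u⁻¹ * x * u) * n ∈ B := by
    have := mul_mem (mul_mem hb (S.U_le hx')) (inv_mem hb)
    have e : b * ((u * n * b)⁻¹ * x * (u * n * b)) * b⁻¹ = n⁻¹ * (u⁻¹ * x * u) * n := by group
    rwa [e] at this
  have h2 := S.inter _ (mul_mem (mul_mem (inv_mem hu) hx) hu) h1
  rwa [mul_assoc, inv_mul_eq_one, eq_comm, mul_eq_right] at h2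

theorem sylow_inf_eq_bot [Finite G] {p : ℕ} [Fact p.Prime] (P0 : Sylow p G) (hP0 : (P0 : Subgroup G) = U)
    (P Q : Sylow p G) (hPQ : P ≠ Q) : (P : Subgroup G) ⊓ (Q : Subgroup G) = ⊥ := by
  obtain ⟨a, ha⟩ := MulAction.exists_smul_eq G P0 P
  obtain ⟨b, hb⟩ := MulAction.exists_smul_eq G P0 Q
  have mem : ∀ (c : G) (y : G), y ∈ ((c • P0 : Sylow p G) : Subgroup G) ↔ c⁻¹ * y * c ∈ U := by
    intro c y
    rw [Sylow.coe_subgroup_smul, Subgroup.mem_pointwise_smul_iff_inv_smul_mem, hP0]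
    simp [mul_assoc]
  refine (Subgroup.eq_bot_iff_forall _).2 fun y hy => ?_
  obtain ⟨h1, h2⟩ := Subgroup.mem_inf.1 hy
  rw [← ha, mem] at h1
  rw [← hb, mem] at h2
  by_cases hg : a⁻¹ * b ∈ B
  · exfalso
    refine hPQ (ha.symm.trans (Eq.trans ?_ hb))
    refine Sylow.ext (Subgroup.ext fun z => ?_)
    rw [mem, mem]
    obtain ⟨u, hu, h, hh, e⟩ := S.factor _ hg
    have eb : b = a * (u * h) := by rw [← e, mul_inv_cancel_left]
    subst eb
    constructor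
    · intro hz
      have := S.conj_U h⁻¹ (inv_mem hh) _ (mul_mem (mul_mem (inv_mem hu) hz) hu)
      simpa [mul_assoc] using this
    · intro hz
      have := mul_mem (mul_mem hu (S.conj_U h hh _ hz)) (inv_mem hu)
      simpa [mul_assoc] using this
  · have h3 : (a⁻¹ * b)⁻¹ * (a⁻¹ * y * a) * (a⁻¹ * b) ∈ U := by simpa [mul_assoc] using h2
    have h4 := S.inter_conj hg h1 h3
    rwa [mul_assoc, inv_mul_eq_one, eq_comm, mul_eq_right] at h4

end SplitRankOne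

end CfsgLib.Lie
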