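/-
Elementary consequences of a rank one setup.
-/
import Cfsg.Prelude.Def_LieRecognition
import Mathlib.GroupTheory.GroupAction.MultipleTransitivity
import Mathlib.GroupTheory.Sylow
import Mathlib.GroupTheory.Index

set_option autoImplicit false

namespace CfsgLib.Lie.RankOne

open MulAction Pointwise

variable {G Ω : Type*} [Group G] [MulAction G Ω] {a : Ω} {t : G} {Q : Subgroup G}

variable (hS : Cfsg.IsRankOneSetup G Ω a t Q)
include hS

theorem t_smul_ne : t • a ≠ a := fun h => hS.not_mem h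

theorem t_inv : t⁻¹ = t := inv_eq_of_mul_eq_one_right hS.mul_self

theorem Q_fix {x : G} (hx : x ∈ Q) : x • a = a := hS.le hx

theorem eq_one_of_fix_ta {x : G} (hx : x ∈ Q) (h : x • (t • a) = t • a) : x = 1 := by
  have : x ∈ Q ⊓ stabilizer G (t • a) := Subgroup.mem_inf.2 ⟨hx, h⟩
  rwa [hS.inf_eq_bot, Subgroup.mem_bot] at this

theorem stab_eq_mul {h : G} (hh : h ∈ stabilizer G a) :
    ∃ q ∈ Q, ∃ d ∈ stabilizer G a ⊓ stabilizer G (t • a), h = q * d := by
  have hn : stabilizer G a ⊓ stabilizer G (t • a) ≤ Subgroup.normalizer (Q : Set G) := by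
    intro d hd
    rw [Subgroup.mem_normalizer_iff]
    intro x
    refine ⟨hS.conj_mem d (Subgroup.mem_inf.1 hd).1 x, fun h => ?_⟩
    have := hS.conj_mem d⁻¹ (inv_mem (Subgroup.mem_inf.1 hd).1) _ h
    simpa [mul_assoc] using this
  rw [← hS.sup_eq, ← SetLike.mem_coe, Subgroup.coe_mul_of_right_le_normalizer_left _ _ hn] at hh
  obtain ⟨q, hq, d, hd, e⟩ := hh
  exact ⟨q, hq, d, hd, e.symm⟩

theorem exists_smul_eq_ta {c : Ω} (hc : c ≠ a) : ∃ x ∈ Q, x • (t • a) = c := by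
  haveI := hS.two_transitive
  obtain ⟨g, h1, h2⟩ := (MulAction.is_two_pretransitive_iff).1 hS.two_transitive
    (t_smul_ne hS).symm hc.symm
  obtain ⟨q, hq, d, hd, rfl⟩ := stab_eq_mul hS (show g ∈ stabilizer G a from h1)
  refine ⟨q, hq, ?_⟩
  rw [← h2, mul_smul, show d • t • a = t • a from (Subgroup.mem_inf.1 hd).2]

theorem eq_one_of_fix {x : G} (hx : x ∈ Q) {c : Ω} (hc : c ≠ a) (h : x • c = c) : x = 1 := by
  obtain ⟨y, hy, rfl⟩ := exists_smul_eq_ta hS hc
  have := eq_one_of_fix_ta hS (mul_mem (mul_mem (inv_mem hy) hx) hy) (by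
    rw [mul_smul, mul_smul, h, inv_smul_smul])
  rw [mul_assoc, inv_mul_eq_one] at this
  exact mul_eq_right.1 this.symm

theorem existsUnique_smul (b c : Ω) (hb : b ≠ a) (hc : c ≠ a) : ∃! x : Q, (x : G) • b = c := by
  obtain ⟨x, hx, rfl⟩ := exists_smul_eq_ta hS hb
  obtain ⟨y, hy, rfl⟩ := exists_smul_eq_ta hS hc
  refine ⟨⟨y * x⁻¹, mul_mem hy (inv_mem hx)⟩, by simp [mul_smul], fun z hz => ?_⟩
  have h1 := eq_one_of_fix_ta hS (mul_mem (mul_mem (inv_mem hy) z.2) hx) (by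
    rw [mul_smul, mul_smul, hz, inv_smul_smul])
  rw [mul_assoc, inv_mul_eq_one] at h1
  exact Subtype.ext (eq_mul_inv_of_mul_eq h1.symm)

theorem card_points [Finite G] : Finite Ω ∧ Nat.card Ω = Nat.card Q + 1 := by
  classical
  let f : Option Q → Ω := fun o => o.elim a fun x => (x : G) • (t • a)
  have hf : Function.Bijective f := by
    refine ⟨?_, fun c => ?_⟩
    · have hne : ∀ x : Q, (x : G) • (t • a) ≠ a := fun x h => t_smul_ne hS (by
        have := congrArg (fun y => (x : G)⁻¹ • y) h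
        simpa [Q_fix hS (inv_mem x.2)] using this)
      rintro (_ | x) (_ | y) e
      · rfl
      · exact absurd e.symm (hne y)
      · exact absurd e (hne x)
      · exact congrArg some ((existsUnique_smul hS (t • a) _ (t_smul_ne hS) (hne x)).unique rfl e.symm)
    · by_cases hc : c = a
      · exact ⟨none, hc.symm⟩
      · obtain ⟨x, hx, rfl⟩ := exists_smul_eq_ta hS hc
        exact ⟨some ⟨x, hx⟩, rfl⟩
  refine ⟨Finite.of_surjective f hf.2, ?_⟩
  rw [← Nat.card_eq_of_bijective f hf]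
  exact Finite.card_option

theorem card_group [Finite G] : Nat.card G =
    Nat.card Q * Nat.card ↥(stabilizer G a ⊓ stabilizer G (t • a)) * (Nat.card Q + 1) := by
  classical
  obtain ⟨_, hΩ⟩ := card_points hS
  haveI := hS.two_transitive
  haveI : IsPretransitive G Ω := MulAction.isPretransitive_of_is_two_pretransitive
  have h1 : Nat.card ↥(stabilizer G a) = Nat.card Q * Nat.card ↥(stabilizer G a ⊓ stabilizer G (t • a)) := by
    rw [← Nat.card_prod]
    refine (Nat.card_eq_of_bijective (fun p : Q × ↥(stabilizer G a ⊓ stabilizer G (t • a)) =>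
      (⟨(p.1 : G) * p.2, mul_mem (hS.le p.1.2) (Subgroup.mem_inf.1 p.2.2).1⟩ : stabilizer G a))
      ⟨fun p p' e => ?_, fun h => ?_⟩).symm
    · have e' : (p.1 : G) * p.2 = p'.1 * p'.2 := congrArg Subtype.val e
      have h2 : (p'.1 : G)⁻¹ * p.1 = p'.2 * (p.2 : G)⁻¹ := by
        rw [eq_mul_inv_iff_mul_eq, mul_assoc, e', inv_mul_cancel_left]
      have h3 := eq_one_of_fix_ta hS (mul_mem (inv_mem p'.1.2) p.1.2) (by
        rw [h2]; exact (Subgroup.mem_inf.1 (mul_mem p'.2.2 (inv_mem p.2.2))).2)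
      have h4 : (p.1 : G) = p'.1 := (inv_mul_eq_one.1 h3).symm
      rw [h4] at e'
      exact Prod.ext (Subtype.ext h4) (Subtype.ext (mul_left_cancel e'))
    · obtain ⟨q, hq, d, hd, e⟩ := stab_eq_mul hS h.2
      exact ⟨(⟨q, hq⟩, ⟨d, hd⟩), Subtype.ext e.symm⟩
  rw [← h1, ← hΩ, ← index_stabilizer_of_transitive G a]
  exact (Subgroup.card_mul_index _).symm

theorem exists_decomp {g : G} (hg : g ∉ stabilizer G a) :
    ∃! p : G × G, p.1 ∈ stabilizer G a ∧ p.2 ∈ Q ∧ g = p.1 * t * p.2 := by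
  have hga : g⁻¹ • a ≠ a := fun h => hg (by
    show g • a = a
    conv_lhs => rw [← h]
    rw [smul_inv_smul])
  obtain ⟨x, hx, he⟩ := exists_smul_eq_ta hS hga
  refine ⟨(g * x * t, x⁻¹), ⟨?_, inv_mem hx, ?_⟩, ?_⟩
  · show (g * x * t) • a = a
    rw [mul_smul, mul_smul, he, smul_inv_smul]
  · show g = g * x * t * t * x⁻¹
    rw [mul_assoc (g * x), hS.mul_self, mul_one, mul_inv_cancel_right]
  · rintro ⟨h, q⟩ ⟨hh, hq, e⟩
    have e2 : q⁻¹ • (t • a) = g⁻¹ • a := by
      dsimp only at e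
      rw [e, mul_inv_rev, mul_inv_rev, t_inv hS, mul_smul, mul_smul,
        show h⁻¹ • a = a from inv_mem (show h ∈ stabilizer G a from hh)]
    have h3 : q⁻¹ = x := congrArg Subtype.val ((existsUnique_smul hS _ _ (t_smul_ne hS) hga).unique
      (y₁ := ⟨q⁻¹, inv_mem hq⟩) (y₂ := ⟨x, hx⟩) e2 he)
    dsimp only at e
    refine Prod.ext ?_ (by rw [← h3, inv_inv])
    rw [← h3, e, mul_inv_cancel_right, mul_assoc, hS.mul_self, mul_one]

theorem tDt {h : G} (hh : h ∈ stabilizer G a ⊓ stabilizer G (t • a)) :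
    t * h * t ∈ stabilizer G a ⊓ stabilizer G (t • a) := by
  obtain ⟨h1, h2⟩ := Subgroup.mem_inf.1 hh
  have htt : t • (t • a) = a := by rw [← mul_smul, hS.mul_self, one_smul]
  refine Subgroup.mem_inf.2 ⟨?_, ?_⟩
  · show (t * h * t) • a = a
    rw [mul_smul, mul_smul, show h • t • a = t • a from h2, htt]
  · show (t * h * t) • t • a = t • a
    rw [mul_smul, mul_smul, htt, show h • a = a from h1]

theorem triple_unique {g g' h h' f f' : G} (hg : g ∈ Q) (hg' : g' ∈ Q)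
    (hh : h ∈ stabilizer G a ⊓ stabilizer G (t • a)) (hh' : h' ∈ stabilizer G a ⊓ stabilizer G (t • a))
    (hf : f ∈ Q) (hf' : f' ∈ Q) (e : g * h * t * f = g' * h' * t * f') : g = g' ∧ h = h' ∧ f = f' := by
  have hstab : ∀ {x y : G}, x ∈ Q → y ∈ stabilizer G a ⊓ stabilizer G (t • a) → x * y ∈ stabilizer G a :=
    fun hx hy => mul_mem (hS.le hx) (Subgroup.mem_inf.1 hy).1
  have hnot : g * h * t * f ∉ stabilizer G a := fun hm => hS.not_mem (by
    have := mul_mem (mul_mem (inv_mem (hstab hg hh)) hm) (inv_mem (hS.le hf))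
    simpa [mul_assoc] using this)
  have := (exists_decomp hS hnot).unique (y₁ := (g * h, f)) (y₂ := (g' * h', f'))
    ⟨hstab hg hh, hf, rfl⟩ ⟨hstab hg' hh', hf', e⟩
  obtain ⟨e1, e2⟩ := Prod.ext_iff.1 this
  dsimp only at e1 e2
  have h2 : g'⁻¹ * g = h' * h⁻¹ := by rw [eq_mul_inv_iff_mul_eq, mul_assoc, e1, inv_mul_cancel_left]
  have h3 := eq_one_of_fix_ta hS (mul_mem (inv_mem hg') hg) (by
    rw [h2]; exact (Subgroup.mem_inf.1 (mul_mem hh' (inv_mem hh))).2)
  have h4 : g = g' := (inv_mul_eq_one.1 h3).symm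
  rw [h4] at e1
  exact ⟨h4, mul_left_cancel e1, e2⟩

theorem exists_sylow_le [Finite G] : ∃ P : Sylow 2 G, (P : Subgroup G) ≤ Q := by
  haveI : Fact (Nat.Prime 2) := ⟨Nat.prime_two⟩
  obtain ⟨P⟩ : Nonempty (Sylow 2 Q) := inferInstance
  have hD : ¬ 2 ∣ Nat.card ↥(stabilizer G a ⊓ stabilizer G (t • a)) :=
    fun h => (Nat.not_even_iff_odd.2 hS.odd_card) (even_iff_two_dvd.2 h)
  have hQ1 : ¬ 2 ∣ Nat.card Q + 1 := by
    have := hS.even_card
    rw [even_iff_two_dvd] at this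
    omega
  have hQ0 : Nat.card Q ≠ 0 := Nat.card_pos.ne'
  have hD0 : Nat.card ↥(stabilizer G a ⊓ stabilizer G (t • a)) ≠ 0 := Nat.card_pos.ne'
  refine ⟨Sylow.ofCard ((P : Subgroup Q).map Q.subtype) ?_, Subgroup.map_subtype_le _⟩
  rw [Subgroup.card_map_of_injective Subtype.val_injective, P.card_eq_multiplicity, card_group hS,
    Nat.factorization_mul (mul_ne_zero hQ0 hD0) (Nat.succ_ne_zero _), Nat.factorization_mul hQ0 hD0,
    Finsupp.add_apply, Finsupp.add_apply, Nat.factorization_eq_zero_of_not_dvd hD,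
    Nat.factorization_eq_zero_of_not_dvd hQ1, add_zero, add_zero]

theorem involution_mem_Q [Finite G] {s : G} (hs : s ∈ stabilizer G a) (hss : s * s = 1) : s ∈ Q := by
  obtain ⟨q, hq, d, hd, rfl⟩ := stab_eq_mul hS hs
  have hda : d ∈ stabilizer G a := (Subgroup.mem_inf.1 hd).1
  have hdd : d * d = 1 := by
    have h1 : d * d = (q * (d * q * d⁻¹))⁻¹ := by
      have : q * (d * q * d⁻¹) * (d * d) = 1 := by rw [← hss]; group
      exact eq_inv_of_mul_eq_one_right this
    have hqm : q * (d * q * d⁻¹) ∈ Q := mul_mem hq (hS.conj_mem d hda q hq)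
    refine eq_one_of_fix_ta hS (h1 ▸ inv_mem hqm) ?_
    exact (Subgroup.mem_inf.1 (mul_mem hd hd)).2
  have hd1 : d = 1 := by
    have h2 : orderOf (⟨d, hd⟩ : ↥(stabilizer G a ⊓ stabilizer G (t • a))) ∣ 2 :=
      orderOf_dvd_of_pow_eq_one (Subtype.ext (by rw [SubmonoidClass.coe_pow, sq]; exact hdd))
    rcases (Nat.dvd_prime Nat.prime_two).1 h2 with h | h
    · exact congrArg Subtype.val (orderOf_eq_one_iff.1 h)
    · exact absurd hS.odd_card (Nat.not_odd_iff_even.2 (even_iff_two_dvd.2 (h ▸ orderOf_dvd_natCard _)))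
  rw [hd1, mul_one]; exact hq

theorem odd_order [Finite G] {s u : G} (hs : s ∈ stabilizer G a) (hs1 : s ≠ 1) (hss : s * s = 1)
    (hu : u ∉ stabilizer G a) (huu : u * u = 1) : Odd (orderOf (s * u)) := by
  by_contra hodd
  obtain ⟨k, hk⟩ := Nat.not_odd_iff_even.1 hodd
  have hpos : 0 < orderOf (s * u) := orderOf_pos _
  have hz1 : (s * u) ^ k ≠ 1 := pow_ne_one_of_lt_orderOf (by omega) (by omega)
  have hzz : (s * u) ^ k * (s * u) ^ k = 1 := by rw [← pow_add, ← hk, pow_orderOf_eq_one]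
  have hzinv : ((s * u) ^ k)⁻¹ = (s * u) ^ k := inv_eq_of_mul_eq_one_right hzz
  have hs' : s⁻¹ = s := inv_eq_of_mul_eq_one_right hss
  have hu' : u⁻¹ = u := inv_eq_of_mul_eq_one_right huu
  have hc : Commute s ((s * u) ^ k) := by
    have h1 : s * (s * u) ^ k * s⁻¹ = ((s * u) ^ k)⁻¹ := by
      rw [← conj_pow, ← inv_pow, mul_inv_rev, hu', hs', ← mul_assoc s s u, hss, one_mul]
    rw [hzinv, mul_inv_eq_iff_eq_mul] at h1
    exact h1
  have hcu : Commute u ((s * u) ^ k) := by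
    have h2 : Commute (s * u) ((s * u) ^ k) := (Commute.refl _).pow_right k
    have h3 := hc.inv_left.mul_left h2
    rwa [inv_mul_cancel_left] at h3
  have hza : ((s * u) ^ k) • a = a := by
    by_contra h
    refine hs1 (eq_one_of_fix hS (involution_mem_Q hS hs hss) h ?_)
    rw [← mul_smul, hc.eq, mul_smul, show s • a = a from hs]
  refine hz1 (eq_one_of_fix hS (involution_mem_Q hS hza hzz) (show u • a ≠ a from hu) ?_)
  rw [← mul_smul, ← hcu.eq, mul_smul, hza]

theorem conj_t [Finite G] {u : G} (hu1 : u ≠ 1) (huu : u * u = 1) : ∃ g : G, g * u * g⁻¹ = t := by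
  obtain ⟨_, hcard⟩ := card_points hS
  haveI := Fintype.ofFinite Ω
  haveI := hS.two_transitive
  haveI : IsPretransitive G Ω := MulAction.isPretransitive_of_is_two_pretransitive
  obtain ⟨c, hc⟩ : ∃ c : Ω, u • c = c := by
    classical
    let σ : Equiv.Perm Ω := toPerm u
    have hσ : σ ^ 2 ^ 1 = 1 := by
      ext x; simp [σ, sq, ← mul_smul, huu]
    obtain ⟨c, hc⟩ := Equiv.Perm.exists_fixed_point_of_prime (p := 2) (n := 1) (hp := ⟨Nat.prime_two⟩) (σ := σ)
      (by rw [← Nat.card_eq_fintype_card, hcard]; have := hS.even_card; rw [even_iff_two_dvd] at this; omega) hσ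
    exact ⟨c, hc⟩
  obtain ⟨g, hg⟩ := exists_smul_eq G c a
  have hs : g * u * g⁻¹ ∈ stabilizer G a := by
    show (g * u * g⁻¹) • a = a
    rw [← hg, mul_smul, inv_smul_smul, mul_smul, hc]
  have hs1 : g * u * g⁻¹ ≠ 1 := by simpa using hu1
  have hss : g * u * g⁻¹ * (g * u * g⁻¹) = 1 := by
    rw [show g * u * g⁻¹ * (g * u * g⁻¹) = g * (u * u) * g⁻¹ by group, huu]; group
  generalize hsdef : g * u * g⁻¹ = s at hs hs1 hss
  obtain ⟨k, hk⟩ := odd_order hS hs hs1 hss hS.not_mem hS.mul_self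
  have hs' : s⁻¹ = s := inv_eq_of_mul_eq_one_right hss
  refine ⟨(s * t) ^ k * g, ?_⟩
  rw [show (s * t) ^ k * g * u * ((s * t) ^ k * g)⁻¹ = (s * t) ^ k * (g * u * g⁻¹) * ((s * t) ^ k)⁻¹ by group, hsdef]
  have h1 : s * ((s * t) ^ k)⁻¹ = (s * t) ^ k * s := by
    have h2 : s * (s * t)⁻¹ * s⁻¹ = s * t := by rw [mul_inv_rev, t_inv hS, hs', mul_assoc, mul_assoc, hss, mul_one]
    have h3 := congrArg (· ^ k) h2
    simp only [conj_pow, inv_pow] at h3
    rw [mul_inv_eq_iff_eq_mul] at h3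
    exact h3
  rw [mul_assoc, h1, ← mul_assoc, ← pow_add]
  have h4 : (s * t) ^ (k + k) * (s * t) = 1 := by
    rw [← pow_succ, show k + k + 1 = orderOf (s * t) by omega, pow_orderOf_eq_one]
  rw [eq_inv_of_mul_eq_one_left h4, mul_inv_rev, t_inv hS, hs', mul_assoc, hss, mul_one]

theorem Q_nontrivial : ∃ x ∈ Q, x ≠ (1 : G) := by
  by_contra h
  simp only [not_exists, not_and, not_not] at h
  have h2 := hS.even_card
  rw [(Subgroup.eq_bot_iff_forall Q).2 h, Subgroup.card_bot] at h2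
  exact Nat.not_even_one h2

end CfsgLib.Lie.RankOne
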